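import Mathlib

/-!
Numerical facts for simple groups whose element orders are prime powers.
-/

set_option autoImplicit false

namespace CfsgLib.Recog.CIT.Eppo

/-- A prime power is not a product of two coprime factors larger than one. -/
theorem eq_one_of_isPrimePow_mul {a b : ℕ} (h : IsPrimePow (a * b)) (hc : a.Coprime b) :
    a = 1 ∨ b = 1 := by
  rw [isPrimePow_nat_iff] at h
  obtain ⟨p, k, hp, -, he⟩ := h
  obtain ⟨i, -, rfl⟩ := (Nat.dvd_prime_pow hp).1 (he ▸ dvd_mul_right a b)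
  obtain ⟨j, -, rfl⟩ := (Nat.dvd_prime_pow hp).1 (he ▸ dvd_mul_left b (p ^ i))
  rcases i with _ | i
  · exact Or.inl (pow_zero p)
  rcases j with _ | j
  · exact Or.inr (pow_zero p)
  exact absurd (Nat.eq_one_of_dvd_coprimes hc (dvd_pow_self p i.succ_ne_zero)
    (dvd_pow_self p j.succ_ne_zero)) hp.ne_one

theorem coprime_of_odd_add_two {a : ℕ} (ha : Odd a) : a.Coprime (a + 2) :=
  Nat.coprime_self_add_right.2 (Nat.coprime_two_right.2 ha)

theorem two_pow_even_sub_one {h : ℕ} (hh : 1 ≤ h) (hpp : IsPrimePow (2 ^ (2 * h) - 1)) : h = 1 := by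
  have h2 : 2 ≤ 2 ^ h := le_self_pow₀ one_le_two (by omega)
  obtain ⟨x, hx⟩ : ∃ x, 2 ^ h = x + 1 := ⟨2 ^ h - 1, by omega⟩
  have e : 2 ^ (2 * h) - 1 = x * (x + 2) := by
    have : 2 ^ (2 * h) = (x + 1) * (x + 1) := by rw [two_mul, pow_add, hx]
    have : (x + 1) * (x + 1) = x * (x + 2) + 1 := by ring
    omega
  have hodd : Odd x := by
    rw [Nat.odd_iff]
    have : 2 ∣ 2 ^ h := dvd_pow_self 2 (by omega)
    omega
  rw [e] at hpp
  rcases eq_one_of_isPrimePow_mul hpp (coprime_of_odd_add_two hodd) with h1 | h1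
  · by_contra hne
    have : 2 ^ 2 ≤ 2 ^ h := Nat.pow_le_pow_right two_pos (by omega)
    omega
  · omega

theorem three_dvd_two_pow_add_one {n : ℕ} (hn : Odd n) : 3 ∣ 2 ^ n + 1 := by
  obtain ⟨k, rfl⟩ := hn
  rw [Nat.dvd_iff_mod_eq_zero, pow_succ, pow_mul, Nat.add_mod, Nat.mul_mod, Nat.pow_mod]
  norm_num

theorem two_pow_add_one_eq_three_pow {n : ℕ} (hn : 1 ≤ n) {j : ℕ} (h : 2 ^ n + 1 = 3 ^ j) :
    n = 1 ∨ n = 3 := by
  rcases Nat.even_or_odd j with ⟨i, rfl⟩ | ⟨i, rfl⟩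
  · have hi : 1 ≤ i := by
      by_contra hi
      obtain rfl : i = 0 := by omega
      have := Nat.two_pow_pos n
      simp at h
    have h3 : 3 ≤ 3 ^ i := le_self_pow₀ (by norm_num) (by omega)
    obtain ⟨x, hx⟩ : ∃ x, 3 ^ i = x + 1 := ⟨3 ^ i - 1, by omega⟩
    have e : 2 ^ n = x * (x + 2) := by
      have : 3 ^ (i + i) = (x + 1) * (x + 1) := by rw [pow_add, hx]
      have : (x + 1) * (x + 1) = x * (x + 2) + 1 := by ring
      omega
    obtain ⟨a, -, ha⟩ := (Nat.dvd_prime_pow Nat.prime_two).1 (e ▸ dvd_mul_right x (x + 2))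
    obtain ⟨b, -, hb⟩ := (Nat.dvd_prime_pow Nat.prime_two).1 (e ▸ dvd_mul_left (x + 2) x)
    have ha1 : a = 1 := by
      by_contra hne
      rcases a with _ | _ | a
      · rw [pow_zero] at ha; omega
      · exact hne rfl
      · rcases b with _ | _ | b
        · rw [pow_zero] at hb; omega
        · rw [pow_one] at hb; omega
        · rw [pow_succ, pow_succ] at ha hb
          omega
    rw [ha1, pow_one] at ha
    subst ha
    right
    exact Nat.pow_right_injective le_rfl (e.trans (by norm_num : (2 : ℕ) * (2 + 2) = 2 ^ 3))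
  · left
    by_contra hne
    have h4 : 2 ^ n % 4 = 0 := by
      obtain ⟨k, rfl⟩ : ∃ k, n = k + 2 := ⟨n - 2, by omega⟩
      simp [pow_add]
    have h3 : 3 ^ (2 * i + 1) % 4 = 3 := by
      rw [pow_succ, pow_mul, Nat.mul_mod, Nat.pow_mod]; norm_num
    rw [← h, Nat.add_mod, h4] at h3
    norm_num at h3

theorem eq_three_pow {m : ℕ} (h : IsPrimePow m) (h3 : 3 ∣ m) : ∃ j, m = 3 ^ j := by
  rw [isPrimePow_nat_iff] at h
  obtain ⟨p, k, hp, -, rfl⟩ := h
  exact ⟨k, by rw [(Nat.prime_dvd_prime_iff_eq Nat.prime_three hp).1 (Nat.prime_three.dvd_of_dvd_pow h3)]⟩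

/-- Two consecutive odd numbers around a power of two that are both prime powers. -/
theorem two_pow_pm {n : ℕ} (hn : 2 ≤ n) (h1 : IsPrimePow (2 ^ n - 1)) (h2 : IsPrimePow (2 ^ n + 1)) :
    n = 2 ∨ n = 3 := by
  rcases Nat.even_or_odd n with ⟨h, rfl⟩ | ho
  · left
    have := two_pow_even_sub_one (h := h) (by omega) (by rwa [two_mul])
    omega
  · obtain ⟨j, hj⟩ := eq_three_pow h2 (three_dvd_two_pow_add_one ho)
    rcases two_pow_add_one_eq_three_pow (by omega) hj with e | e <;> omega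

theorem fermat_case {p k : ℕ} (hp : p.Prime) (hp7 : 7 ≤ p) (he : p = 2 ^ k + 1)
    (h : IsPrimePow ((p + 1) / 2)) : p = 17 := by
  rcases Nat.even_or_odd k with hk | hk
  · rcases k with _ | k
    · simp at he; omega
    have ho : Odd k := Nat.not_even_iff_odd.1 fun e => (Nat.even_add_one.1 hk) e
    have e2 : (p + 1) / 2 = 2 ^ k + 1 := by rw [he, pow_succ]; omega
    rw [e2] at h
    obtain ⟨j, hj⟩ := eq_three_pow h (three_dvd_two_pow_add_one ho)
    rcases two_pow_add_one_eq_three_pow ho.pos hj with rfl | rfl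
    · norm_num at he; omega
    · norm_num at he; omega
  · exfalso
    have := (Nat.prime_dvd_prime_iff_eq Nat.prime_three hp).1 (he ▸ three_dvd_two_pow_add_one hk)
    omega

theorem mersenne_case {p k : ℕ} (hp : p.Prime) (hp7 : 7 ≤ p) (he : p + 1 = 2 ^ k)
    (h : IsPrimePow ((p - 1) / 2)) : p = 7 := by
  rcases k with _ | k
  · simp at he; omega
  have e2 : (p - 1) / 2 = 2 ^ k - 1 := by
    rw [pow_succ] at he
    omega
  rw [e2] at h
  rcases Nat.even_or_odd k with ⟨j, rfl⟩ | ⟨j, rfl⟩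
  · rcases Nat.eq_zero_or_pos j with rfl | hj
    · norm_num at he; omega
    have := two_pow_even_sub_one hj (by rwa [two_mul])
    subst this
    norm_num at he; omega
  · exfalso
    have h3 : 3 ∣ p := by
      have e4 : 2 ^ (2 * j + 1) * 2 % 3 = 1 := by
        rw [← pow_succ, show 2 * j + 1 + 1 = 2 * (j + 1) by ring, pow_mul, Nat.pow_mod]; norm_num
      rw [pow_succ 2 (2 * j + 1)] at he
      generalize 2 ^ (2 * j + 1) = w at *
      omega
    have := (Nat.prime_dvd_prime_iff_eq Nat.prime_three hp).1 h3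
    omega

theorem le_two_pow_sub_two {h : ℕ} (h4 : 4 ≤ h) : h ≤ 2 ^ (h - 2) := by
  induction h, h4 using Nat.le_induction with
  | base => norm_num
  | succ m hm ih =>
    rw [show m + 1 - 2 = (m - 2) + 1 by omega, pow_succ]
    omega

/-- A power of five next to `2^(2h-1)`. -/
theorem five_pow_bound {h i : ℕ} (hh : 2 ≤ h) (hi : 1 ≤ i) (hd : 2 ^ h ∣ 5 ^ i - 1)
    (hle : 5 ^ i ≤ 2 ^ (2 * h)) : h ≤ 3 := by
  by_contra hlt
  obtain ⟨k, hk⟩ : ∃ k, h = k + 3 := ⟨h - 3, by omega⟩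
  have hc : (5 : ZMod (2 ^ (k + 3))) ^ i = 1 := by
    have h1 : ((5 ^ i - 1 : ℕ) : ZMod (2 ^ (k + 3))) = 0 := by
      rw [ZMod.natCast_eq_zero_iff]
      exact hk ▸ hd
    rw [Nat.cast_sub (Nat.one_le_pow i 5 (by norm_num)), sub_eq_zero] at h1
    simpa using h1
  have ho := orderOf_dvd_of_pow_eq_one hc
  rw [ZMod.orderOf_five] at ho
  have hi' : 2 ^ (h - 2) ≤ i := Nat.le_of_dvd (by omega) (by rwa [hk, show k + 3 - 2 = k + 1 by omega])
  have h5 : 5 ^ h ≤ 2 ^ (2 * h) := (Nat.pow_le_pow_right (by norm_num)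
    ((le_two_pow_sub_two (by omega)).trans hi')).trans hle
  rw [pow_mul] at h5
  exact absurd h5 (not_le.2 (Nat.pow_lt_pow_left (by norm_num) (by omega)))

theorem five_dvd_four_pow_add_one {n : ℕ} (hn : Odd n) : 5 ∣ (2 ^ n) ^ 2 + 1 := by
  obtain ⟨k, rfl⟩ := hn
  rw [← pow_mul, show (2 * k + 1) * 2 = 4 * k + 2 by ring, pow_add, pow_mul, Nat.dvd_iff_mod_eq_zero,
    Nat.add_mod, Nat.mul_mod, Nat.pow_mod]
  norm_num

/-- The two factors of `q² + 1`, one of them a power of five. -/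
theorem suzuki_arith {n a b : ℕ} (hn : Odd n) (hn3 : 3 ≤ n) (hs : a + b = 2 * 2 ^ n + 2)
    (hab : a * b = (2 ^ n) ^ 2 + 1) (ha : IsPrimePow a) (hb : IsPrimePow b) : n = 3 ∨ n = 5 := by
  wlog h5 : 5 ∣ a generalizing a b
  · refine this (a := b) (b := a) (by omega) (by rw [mul_comm, hab]) hb ha ?_
    rcases Nat.prime_five.dvd_mul.1 (hab ▸ five_dvd_four_pow_add_one hn) with h | h
    · exact absurd h h5
    · exact h
  obtain ⟨i, hi0, rfl⟩ : ∃ i, 1 ≤ i ∧ a = 5 ^ i := by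
    rw [isPrimePow_nat_iff] at ha
    obtain ⟨p, k, hp, hk, rfl⟩ := ha
    exact ⟨k, hk, by rw [(Nat.prime_dvd_prime_iff_eq Nat.prime_five hp).1 (Nat.prime_five.dvd_of_dvd_pow h5)]⟩
  obtain ⟨j, rfl⟩ := hn
  set h := j + 1 with hh
  set q := 2 ^ (2 * j + 1) with hq
  have hsq : 2 ^ h * 2 ^ h = 2 * q := by rw [hq, hh, ← pow_add, ← pow_succ']; ring_nf
  have key : ((5 : ℤ) ^ i - ((q : ℤ) + 1)) * ((5 : ℤ) ^ i - ((q : ℤ) + 1)) = (2 : ℤ) ^ h * 2 ^ h := by
    have e1 : ((5 : ℤ) ^ i) + b = 2 * q + 2 := by exact_mod_cast hs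
    have e2 : ((5 : ℤ) ^ i) * b = (q : ℤ) ^ 2 + 1 := by exact_mod_cast hab
    have e3 : (2 : ℤ) ^ h * 2 ^ h = 2 * q := by exact_mod_cast hsq
    rw [show (b : ℤ) = 2 * q + 2 - 5 ^ i by linarith] at e2
    rw [e3]
    linear_combination -e2
  have hqh : q = 2 ^ h * 2 ^ j := by rw [hq, hh, ← pow_add]; ring_nf
  have hcase : 5 ^ i = q + 1 + 2 ^ h ∨ 5 ^ i + 2 ^ h = q + 1 := by
    rcases mul_self_eq_mul_self_iff.1 key with e | e
    · left
      have : ((5 ^ i : ℕ) : ℤ) = ((q + 1 + 2 ^ h : ℕ) : ℤ) := by push_cast; linarith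
      exact_mod_cast this
    · right
      have : ((5 ^ i + 2 ^ h : ℕ) : ℤ) = ((q + 1 : ℕ) : ℤ) := by push_cast; linarith
      exact_mod_cast this
  have hd : 2 ^ h ∣ 5 ^ i - 1 := by
    rcases hcase with e | e
    · have e' : 5 ^ i - 1 = q + 2 ^ h := by rw [e]; clear_value q; generalize 2 ^ h = w; omega
      rw [e']
      exact dvd_add (hqh ▸ dvd_mul_right _ _) dvd_rfl
    · have e' : 5 ^ i - 1 = q - 2 ^ h := by clear_value q; generalize 2 ^ h = w at *; omega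
      rw [e']
      exact Nat.dvd_sub (hqh ▸ dvd_mul_right _ _) dvd_rfl
  have hle : 5 ^ i ≤ 2 ^ (2 * h) := by
    have h1 : 2 ^ h ≤ q := Nat.pow_le_pow_right two_pos (by omega)
    have h2 : 2 ^ (2 * h) = 2 * q := by rw [two_mul, pow_add, hsq]
    have h3 : 4 ≤ 2 ^ h := (Nat.pow_le_pow_right two_pos (show 2 ≤ h by omega)).trans' (by norm_num)
    rcases hcase with e | e
    · -- here `2 ^ h < q`
      have h4 : 2 * 2 ^ h ≤ q := by
        rw [← pow_succ']; exact Nat.pow_le_pow_right two_pos (by omega)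
      omega
    · omega
  have := five_pow_bound (by omega) hi0 hd hle
  omega

end CfsgLib.Recog.CIT.Eppo
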