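import Cfsg.Agent.Lib.Recog.CIT.Basic

/-!
Finite groups all of whose element orders are prime powers: elementary facts.
-/

set_option autoImplicit false
set_option linter.dupNamespace false
set_option linter.unusedSectionVars false

namespace CfsgLib.Recog.CIT.Eppo

universe u

variable {G : Type u} [Group G] [Finite G]

/-- Every nontrivial element has prime-power order. -/
def Pp (G : Type*) [Group G] : Prop := ∀ g : G, g ≠ 1 → IsPrimePow (orderOf g)

theorem Pp.subgroup (h : Pp G) (K : Subgroup G) : Pp K := fun g hg => by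
  rw [← Subgroup.orderOf_coe]
  exact h g fun e => hg (Subtype.ext e)

theorem Pp.of_surjective (h : Pp G) {Q : Type*} [Group Q] (f : G →* Q)
    (hf : Function.Surjective f) : Pp Q := by
  intro q hq
  obtain ⟨g, rfl⟩ := hf q
  exact (h g fun e => hq (by rw [e, map_one])).dvd (orderOf_map_dvd f g)
    fun e => hq (orderOf_eq_one_iff.1 e)

theorem Pp.congr (h : Pp G) {Q : Type*} [Group Q] (e : G ≃* Q) : Pp Q :=
  h.of_surjective e.toMonoidHom e.surjective

theorem Pp.prime_unique (h : Pp G) {g : G} {p r : ℕ} (hp : p.Prime) (hr : r.Prime)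
    (hpd : p ∣ orderOf g) (hrd : r ∣ orderOf g) : p = r := by
  have hg : g ≠ 1 := fun e => hp.ne_one (Nat.dvd_one.1 (by rwa [e, orderOf_one] at hpd))
  exact ((isPrimePow_iff_unique_prime_dvd).1 (h g hg)).unique ⟨hp, hpd⟩ ⟨hr, hrd⟩

theorem Pp.isPrimePow_of_dvd (h : Pp G) {n : ℕ} (hn : n ≠ 1) {g : G} (hg : orderOf g = n) :
    IsPrimePow n :=
  hg ▸ h g fun e => hn (by rw [← hg, e, orderOf_one])

theorem Pp.exists_pow (h : Pp G) {g : G} {p : ℕ} (hp : p.Prime) (hpd : p ∣ orderOf g) :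
    ∃ k, orderOf g = p ^ k :=
  ⟨_, Nat.eq_prime_pow_of_unique_prime_dvd (orderOf_pos g).ne' fun hd hdd =>
    h.prime_unique hd hp hdd hpd⟩

/-- Centralisers of nontrivial elements are groups of prime-power order. -/
theorem Pp.isPGroup_centralizer (h : Pp G) {x : G} {p : ℕ} (hp : p.Prime) (hpd : p ∣ orderOf x) :
    IsPGroup p (Subgroup.centralizer ({x} : Set G)) := by
  haveI := Fact.mk hp
  rw [IsPGroup.iff_orderOf]
  rintro ⟨y, hy⟩
  rw [Subgroup.orderOf_mk]
  rcases eq_or_ne y 1 with rfl | hy1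
  · exact ⟨0, orderOf_one⟩
  by_cases hd : p ∣ orderOf y
  · exact h.exists_pow hp hd
  exfalso
  obtain ⟨r, hr, hrd⟩ := Nat.exists_prime_and_dvd (fun e => hy1 (orderOf_eq_one_iff.1 e) :
    orderOf y ≠ 1)
  obtain ⟨i, hi⟩ := h.exists_pow hp hpd
  have hc : Commute x y := (Subgroup.mem_centralizer_singleton_iff.1 hy).symm
  have ho := hc.orderOf_mul_eq_mul_orderOf_of_coprime
    (by rw [hi]; exact Nat.Coprime.pow_left _ (hp.coprime_iff_not_dvd.2 hd))
  exact hd (h.prime_unique hp hr (ho ▸ hpd.trans (dvd_mul_right _ _))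
    (ho ▸ hrd.trans (dvd_mul_left _ _)) ▸ hrd)

theorem Pp.eq_of_commute (h : Pp G) {x y : G} {p r : ℕ} (hp : p.Prime) (hr : r.Prime)
    (hpd : p ∣ orderOf x) (hrd : r ∣ orderOf y) (hc : Commute x y) : p = r := by
  haveI := Fact.mk hp
  obtain ⟨k, hk⟩ := (IsPGroup.iff_orderOf.1 (h.isPGroup_centralizer hp hpd))
    ⟨y, Subgroup.mem_centralizer_singleton_iff.2 hc.eq.symm⟩
  rw [Subgroup.orderOf_mk] at hk
  exact ((Nat.prime_dvd_prime_iff_eq hr hp).1 (hr.dvd_of_dvd_pow (hk ▸ hrd))).symm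

theorem Pp.cit (h : Pp G) : CIT G := fun _ ht =>
  h.isPGroup_centralizer Nat.prime_two (by rw [ht])

end CfsgLib.Recog.CIT.Eppo
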