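import Mathlib

/-!
The numerical consequence of the class equations in a simple group of Suzuki order.
-/

set_option autoImplicit false

namespace CfsgLib.Recog.CIT.Eppo

theorem count_arith {ι : Type*} [DecidableEq ι] (s r : Finset ι) (hrs : r ⊆ s) (a f : ι → ℕ)
    {q M : ℕ} (hM : M = q ^ 2 + 1) (hq : 8 ≤ q) (hq2 : Even q) (ha : ∀ i ∈ s, a i ∣ M)
    (hco : ∀ i ∈ s, ∀ j ∈ s, i ≠ j → (a i).Coprime (a j)) (ha5 : ∀ i ∈ r, 5 ≤ a i)
    (hr : ∀ i ∈ r, 2 * f i + 1 = a i ∨ 4 * f i + 1 = a i)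
    (h1 : 2 * ∑ i ∈ r, f i = q) (h2 : 2 * ∑ i ∈ s, f i * (M / a i) + q = q * q) :
    ∃ i ∈ r, ∃ j ∈ r, a i + a j = 2 * q + 2 ∧ a i * a j = M := by
  have hMpos : 0 < M := by omega
  have hMq : M = q * q + 1 := by rw [hM, pow_two]
  have hodd : Odd M := by rw [hMq]; exact (hq2.mul_right q).add_one
  -- each share is at least a fifth
  have hshare : ∀ i ∈ r, (2 * f i + 1 = a i → 2 * M ≤ 5 * (f i * (M / a i))) ∧
      M ≤ 5 * (f i * (M / a i)) := by
    intro i hi
    have h5 := ha5 i hi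
    obtain ⟨c, hc⟩ := ha i (hrs hi)
    have hd : M / a i = c := by rw [hc, Nat.mul_div_cancel_left _ (by omega)]
    rw [hd]
    refine ⟨fun e => ?_, ?_⟩
    · calc 2 * M = (2 * a i) * c := by rw [hc]; ring
        _ ≤ (5 * f i) * c := Nat.mul_le_mul_right _ (by omega)
        _ = _ := by ring
    · calc M = a i * c := hc
        _ ≤ (5 * f i) * c := Nat.mul_le_mul_right _ (by rcases hr i hi with e | e <;> omega)
        _ = _ := by ring
  have hsum_le : ∑ i ∈ r, f i * (M / a i) ≤ ∑ i ∈ s, f i * (M / a i) :=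
    Finset.sum_le_sum_of_subset hrs
  have hrne : r.Nonempty := by
    by_contra h
    rw [Finset.not_nonempty_iff_eq_empty.1 h] at h1
    simp at h1; omega
  have hcard2 : r.card ≤ 2 := by
    by_contra h
    have h3 : r.card * M ≤ ∑ i ∈ r, 5 * (f i * (M / a i)) := by
      rw [← smul_eq_mul, ← Finset.sum_const]
      exact Finset.sum_le_sum fun i hi => (hshare i hi).2
    rw [← Finset.mul_sum] at h3
    have : 3 * M ≤ r.card * M := Nat.mul_le_mul_right _ (by omega)
    omega
  have hone : ∀ i, r = {i} → False := by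
    rintro i rfl
    rw [Finset.sum_singleton] at h1
    obtain ⟨c, hc⟩ := ha i (hrs (Finset.mem_singleton_self i))
    rcases hr i (Finset.mem_singleton_self i) with e | e
    · have h3 : q + 1 ∣ M := ⟨c, by rw [hc, ← e, h1]⟩
      have h4 : q + 1 ∣ q * q + q := ⟨q, by ring⟩
      have h5 : q + 1 ∣ (q * q + q) - M := Nat.dvd_sub h4 h3
      rw [show (q * q + q) - M = q - 1 by omega] at h5
      exact absurd (Nat.le_of_dvd (by omega) h5) (by omega)
    · have h3 : 2 * q + 1 ∣ 4 * M := ⟨4 * c, by rw [hc, ← e, ← h1]; ring⟩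
      have h4 : 2 * q + 1 ∣ 4 * (q * q) + 2 * q := ⟨2 * q, by ring⟩
      have h6 : 4 * M = 4 * (q * q) + 4 := by rw [hMq]; ring
      have h5 : 2 * q + 1 ∣ (4 * (q * q) + 2 * q) - 4 * M := Nat.dvd_sub h4 h3
      rw [h6, show (4 * (q * q) + 2 * q) - (4 * (q * q) + 4) = 2 * q - 4 by omega] at h5
      exact absurd (Nat.le_of_dvd (by omega) h5) (by omega)
  have hc2 : r.card = 2 := by
    have := hrne.card_pos
    by_contra h
    obtain ⟨i, hi⟩ := Finset.card_eq_one.1 (show r.card = 1 by omega)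
    exact hone i hi
  obtain ⟨i, j, hij, hrij⟩ := Finset.card_eq_two.1 hc2
  have hi : i ∈ r := by rw [hrij]; simp
  have hj : j ∈ r := by rw [hrij]; simp
  refine ⟨i, hi, j, hj, ?_⟩
  rw [hrij, Finset.sum_pair hij] at h1
  have hsum2 : ∑ x ∈ r, 5 * (f x * (M / a x)) ≤ 5 * ∑ x ∈ s, f x * (M / a x) := by
    rw [← Finset.mul_sum]; exact Nat.mul_le_mul_left _ hsum_le
  rw [hrij, Finset.sum_pair hij] at hsum2
  have four : ∀ k ∈ r, 4 * f k + 1 = a k := by
    intro k hk
    refine (hr k hk).resolve_left fun e => ?_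
    have ek := (hshare k hk).1 e
    have ei := (hshare i hi).2
    have ej := (hshare j hj).2
    rw [hrij] at hk
    rcases Finset.mem_insert.1 hk with rfl | hk
    · omega
    · obtain rfl := Finset.mem_singleton.1 hk
      omega
  have hai := four i hi
  have haj := four j hj
  have hadd : a i + a j = 2 * q + 2 := by omega
  refine ⟨hadd, ?_⟩
  -- the product is everything
  have hcop := hco i (hrs hi) j (hrs hj) hij
  obtain ⟨m, hm⟩ := hcop.mul_dvd_of_dvd_of_dvd (ha i (hrs hi)) (ha j (hrs hj))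
  have hm1 : 1 ≤ m := Nat.pos_of_ne_zero fun e => by rw [e, mul_zero] at hm; omega
  have hi0 : 0 < a i := by omega
  have hj0 : 0 < a j := by omega
  have hdi : M / a i = a j * m := by rw [hm, mul_assoc, Nat.mul_div_cancel_left _ hi0]
  have hdj : M / a j = a i * m := by
    rw [hm, show a i * a j * m = a j * (a i * m) by ring, Nat.mul_div_cancel_left _ hj0]
  have hrest : a i * a j ∣ ∑ x ∈ s \ r, f x * (M / a x) := by
    refine Finset.dvd_sum fun x hx => Dvd.dvd.mul_left ?_ _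
    obtain ⟨hxs, hxr⟩ := Finset.mem_sdiff.1 hx
    have hxi : (a i).Coprime (a x) := hco i (hrs hi) x hxs fun e => hxr (e ▸ hi)
    have hxj : (a j).Coprime (a x) := hco j (hrs hj) x hxs fun e => hxr (e ▸ hj)
    have hxM := ha x hxs
    refine hcop.mul_dvd_of_dvd_of_dvd ?_ ?_
    · exact hxi.dvd_of_dvd_mul_left (by rw [Nat.mul_div_cancel' hxM]; exact ha i (hrs hi))
    · exact hxj.dvd_of_dvd_mul_left (by rw [Nat.mul_div_cancel' hxM]; exact ha j (hrs hj))
  obtain ⟨K, hK⟩ := hrest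
  rw [← Finset.sum_sdiff hrs, hK, hrij, Finset.sum_pair hij, hdi, hdj] at h2
  -- the identity
  have key : 2 * (a i * a j) * K + (q + 1) = m * (q + 1) := by
    have e1 : ((a i : ℤ) = 4 * f i + 1) := by exact_mod_cast hai.symm
    have e2 : ((a j : ℤ) = 4 * f j + 1) := by exact_mod_cast haj.symm
    have e3 : (a i : ℤ) + a j = 2 * q + 2 := by exact_mod_cast hadd
    have e4 : 2 * ((a i : ℤ) * a j * K + (f i * (a j * m) + f j * (a i * m))) + q = q * q := by
      exact_mod_cast h2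
    have e5 : (q : ℤ) * q + 1 = a i * a j * m := by exact_mod_cast hMq.symm.trans hm
    have e6 : (2 : ℤ) * (2 * (a i * a j) * K + (q + 1)) = 2 * (m * (q + 1)) := by
      linear_combination 2 * e4 - (a j * m : ℤ) * (-e1) - (a i * m : ℤ) * (-e2) + 2 * e5 + (m : ℤ) * e3
    have e7 : (2 * (a i * a j) * K + (q + 1) : ℤ) = m * (q + 1) := by linarith
    exact_mod_cast e7
  obtain ⟨m', rfl⟩ : ∃ m', m = m' + 1 := ⟨m - 1, by omega⟩
  have hdvd : a i * a j ∣ m' * (q + 1) := ⟨2 * K, by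
    have : (m' + 1) * (q + 1) = m' * (q + 1) + (q + 1) := by ring
    have : a i * a j * (2 * K) = 2 * (a i * a j) * K := by ring
    omega⟩
  have hcq : (a i * a j).Coprime (q + 1) := by
    refine Nat.Coprime.of_dvd_left (Dvd.intro _ hm.symm) ?_
    refine Nat.coprime_of_dvd fun p hp hp1 hp2 => ?_
    have h4 : p ∣ q * q + q := dvd_trans hp2 ⟨q, by ring⟩
    have h5 : p ∣ (q + 1) := hp2
    have h6 : p ∣ q - 1 := by
      have := Nat.dvd_sub h4 hp1
      rwa [show (q * q + q) - M = q - 1 by omega] at this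
    have h7 := Nat.dvd_sub h5 h6
    rw [show (q + 1) - (q - 1) = 2 by omega] at h7
    obtain rfl := (Nat.prime_dvd_prime_iff_eq hp Nat.prime_two).1 h7
    exact (Nat.not_even_iff_odd.2 hodd) (even_iff_two_dvd.2 hp1)
  have hle := hcq.dvd_of_dvd_mul_right hdvd
  rcases Nat.eq_zero_or_pos m' with rfl | hm'
  · rw [hm, zero_add, mul_one]
  exfalso
  have h8 := Nat.le_of_dvd hm' hle
  -- the product is large
  have hbig : 2 * q ≤ a i * a j := by
    rcases Nat.le_total (a i) (a j) with h | h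
    · calc 2 * q ≤ 5 * (q + 1) := by omega
        _ ≤ a i * a j := Nat.mul_le_mul (ha5 i hi) (by omega)
    · calc 2 * q ≤ (q + 1) * 5 := by omega
        _ ≤ a i * a j := Nat.mul_le_mul (by omega) (ha5 j hj)
  have h9 : (2 * q) * (2 * q) ≤ M := by
    rw [hm]; exact Nat.mul_le_mul hbig (by omega)
  have : (2 * q) * (2 * q) = 4 * (q * q) := by ring
  have : 64 ≤ q * q := Nat.mul_le_mul hq hq
  omega

end CfsgLib.Recog.CIT.Eppo
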