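import Cfsg.Agent.Lib.Recog.CIT.Eppo.Basic

/-!
A normal subgroup with a Sylow subgroup of prime order whose normaliser is large is the whole group.
-/

set_option autoImplicit false
set_option linter.dupNamespace false
set_option linter.unusedSectionVars false

set_option linter.style.haveILetI false

namespace CfsgLib.Recog.CIT.Eppo

universe u

variable {G : Type u} [Group G] [Finite G]

/-- If a normal subgroup `M` contains a subgroup `P` of prime order `p` with `p² ∤ |M|` and an element of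
prime order `j` normalising `P`, where `j² ∤ p - 1`, then `M` is everything. -/
theorem Pp.eq_top_of_normalizer (h : Pp G) {M : Subgroup G} [M.Normal] {p j : ℕ} (hp : p.Prime)
    (hj : j.Prime) (hjp : j ≠ p) (hjj : ¬ j * j ∣ p - 1) {P : Subgroup G} (hPM : P ≤ M)
    (hP : Nat.card P = p) (hp2 : ¬ p * p ∣ Nat.card M) {y : G} (hyM : y ∈ M)
    (hyN : y ∈ Subgroup.normalizer (P : Set G)) (hyo : orderOf y = j) : M = ⊤ := by
  classical
  haveI := Fact.mk hp
  haveI := Fact.mk hj
  -- Frattini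
  have hPp : IsPGroup p P := IsPGroup.of_card (n := 1) (by rw [hP, pow_one])
  let S : Sylow p M := Sylow.ofCard (P.subgroupOf M) (by
    rw [Nat.card_congr (Subgroup.subgroupOfEquivOfLe hPM).toEquiv, hP]
    have h1 : p ∣ Nat.card M := hP ▸ Subgroup.card_dvd_of_le hPM
    have h3 : (Nat.card M).factorization p = 1 := by
      refine le_antisymm ?_ (hp.factorization_pos_of_dvd Nat.card_pos.ne' h1)
      by_contra hlt
      exact hp2 ((pow_two p ▸ pow_dvd_pow p (not_le.1 hlt)).trans (Nat.ordProj_dvd _ p))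
    rw [h3, pow_one])
  have hfr : Subgroup.normalizer (P : Set G) ⊔ M = ⊤ := by
    have := Sylow.normalizer_sup_eq_top S
    rwa [show (S : Subgroup M).map M.subtype = P by
      rw [show (S : Subgroup M) = P.subgroupOf M from rfl, Subgroup.map_subgroupOf_eq_of_le hPM]] at this
  -- the action on `P`
  obtain ⟨a, haP, ha⟩ : ∃ a ∈ P, orderOf a = p := by
    obtain ⟨a, ha⟩ := exists_prime_orderOf_dvd_card' (G := P) p (by rw [hP])
    exact ⟨a, a.2, by rw [Subgroup.orderOf_coe, ha]⟩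
  set N := Subgroup.normalizer (P : Set G) with hN
  let ψ : N →* MulAut P := P.normalizerMonoidHom
  haveI : IsCyclic P := isCyclic_of_prime_card hP
  haveI hcyc : IsCyclic (MulAut P) := by
    have hu : IsCyclic (ZMod (Nat.card P))ˣ := by
      rw [hP]; exact ZMod.isCyclic_units_prime hp
    exact isCyclic_of_surjective (IsCyclic.mulAutMulEquiv P).symm
      (IsCyclic.mulAutMulEquiv P).symm.surjective
  have hAut : Nat.card (MulAut P) = p - 1 := by
    rw [IsCyclic.card_mulAut, hP, Nat.totient_prime hp]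
  -- the kernel
  set C := Subgroup.centralizer ({a} : Set G) with hC
  have hCp : IsPGroup p C := h.isPGroup_centralizer hp (by rw [ha])
  have hPgen : P = Subgroup.zpowers a :=
    (Subgroup.eq_of_le_of_card_ge (Subgroup.zpowers_le.2 haP) (by rw [hP, Nat.card_zpowers, ha])).symm
  have hker : ∀ n : N, ψ n = 1 → (n : G) ∈ C := fun n hn => by
    have h1 := congrArg (fun e : MulAut P => ((e ⟨a, haP⟩ : P) : G)) hn
    have h2 : (n : G) * a * (n : G)⁻¹ = a := h1
    exact Subgroup.mem_centralizer_singleton_iff.2 (mul_inv_eq_iff_eq_mul.1 h2)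
  have hCP : ∀ c ∈ C, ∀ v ∈ P, Commute c v := fun c hc v hv => by
    rw [hPgen] at hv
    obtain ⟨i, rfl⟩ := Subgroup.mem_zpowers_iff.1 hv
    exact (Subgroup.mem_centralizer_singleton_iff.1 hc : c * a = a * c) |> fun e => Commute.zpow_right e i
  have hCM : ∀ c ∈ C, c ∈ M → c ∈ P := fun c hc hcM => by
    have hle : C ⊓ M ≤ M := inf_le_right
    obtain ⟨i, hi⟩ := (hCp.to_le (inf_le_left : C ⊓ M ≤ C)).exists_card_eq
    have hP' : P ≤ C ⊓ M := le_inf (by
      rw [hPgen, Subgroup.zpowers_le]; exact Subgroup.mem_centralizer_singleton_iff.2 rfl) hPM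
    have hi1 : i ≤ 1 := by
      by_contra hlt
      refine hp2 (dvd_trans ?_ (hi ▸ Subgroup.card_dvd_of_le hle))
      rw [← pow_two]; exact pow_dvd_pow p (by omega)
    have := Subgroup.eq_of_le_of_card_ge hP' (by
      rw [hi, hP]; exact (Nat.pow_le_pow_right hp.pos hi1).trans (pow_one p).le)
    exact this ▸ ⟨hc, hcM⟩
  have hyP : y ∉ C := fun hy => hjp (h.eq_of_commute hp hj (by rw [ha]) (by rw [hyo])
    (Subgroup.mem_centralizer_singleton_iff.1 hy).symm).symm
  set y' : N := ⟨y, hyN⟩ with hy'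
  have hψy : orderOf (ψ y') = j := by
    rcases (Nat.dvd_prime hj).1 ((orderOf_map_dvd ψ y').trans
      (dvd_of_eq ((Subgroup.orderOf_mk y hyN).trans hyo))) with h1 | h1
    · exact absurd (hker y' (orderOf_eq_one_iff.1 h1)) hyP
    · exact h1
  obtain ⟨w, hw⟩ := IsCyclic.exists_generator (α := ψ.range)
  obtain ⟨w', hw'⟩ := w.2
  have hjw : j ∣ orderOf (ψ w') := by
    obtain ⟨i, hi⟩ := Subgroup.mem_zpowers_iff.1 (hw ⟨ψ y', y', rfl⟩)
    rw [← hψy, hw', Subgroup.orderOf_coe]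
    have : ((w ^ i : ψ.range) : MulAut P) = ψ y' := congrArg Subtype.val hi
    rw [← this, Subgroup.coe_zpow, ← Subgroup.orderOf_coe w]
    exact (Subgroup.orderOf_dvd_natCard _ (zpow_mem (Subgroup.mem_zpowers _) i)).trans (dvd_of_eq (Nat.card_zpowers _))
  have hwo : orderOf (ψ w') = j := by
    obtain ⟨k, hk⟩ := h.exists_pow hj (hjw.trans ((orderOf_map_dvd ψ w').trans
      (dvd_of_eq (Subgroup.orderOf_coe w').symm)))
    obtain ⟨l, hl, hl'⟩ := (Nat.dvd_prime_pow hj).1 ((orderOf_map_dvd ψ w').trans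
      (dvd_of_eq ((Subgroup.orderOf_coe w').symm.trans hk)))
    rcases l with _ | _ | l
    · rw [hl', pow_zero] at hjw
      exact absurd (Nat.dvd_one.1 hjw) hj.ne_one
    · rw [hl', pow_one]
    · refine absurd (dvd_trans ?_ (hAut ▸ orderOf_dvd_natCard (ψ w'))) hjj
      rw [hl', ← pow_two]
      exact pow_dvd_pow j (by omega)
  have hrange : ψ.range = Subgroup.zpowers (ψ y') := by
    refine (Subgroup.eq_of_le_of_card_ge (Subgroup.zpowers_le.2 (show ψ y' ∈ ψ.range from ⟨y', rfl⟩)) ?_).symm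
    rw [Nat.card_zpowers, hψy, ← orderOf_eq_card_of_forall_mem_zpowers hw, ← Subgroup.orderOf_coe w,
      ← hw', hwo]
  -- an element centralising `P` outside `M`
  rw [eq_top_iff]
  intro g _
  obtain ⟨n, hn, m, hm, rfl⟩ := Subgroup.mem_sup_of_normal_right.1 (hfr.symm ▸ Subgroup.mem_top g)
  refine mul_mem ?_ hm
  obtain ⟨i, hi⟩ := Subgroup.mem_zpowers_iff.1 (show ψ ⟨n, hn⟩ ∈ Subgroup.zpowers (ψ y') by rw [← hrange]; exact ⟨_, rfl⟩)
  set c : G := n * (y ^ i)⁻¹ with hc
  have hcC : c ∈ C := by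
    have := hker (⟨n, hn⟩ * (y' ^ i)⁻¹) (by rw [map_mul, map_inv, map_zpow, hi, mul_inv_cancel])
    simpa [hc, hy'] using this
  suffices hcP : c ∈ P by
    have : n = c * y ^ i := by rw [hc, inv_mul_cancel_right]
    exact this ▸ mul_mem (hPM hcP) (zpow_mem hyM i)
  -- `y` fixes an element of the coset of `c`
  have hconjP : ∀ v : P, y * v * y⁻¹ ∈ P := fun v => (Subgroup.mem_normalizer_iff.1 hyN v).1 v.2
  let f : P → P := fun v => ⟨(v : G)⁻¹ * (y * v * y⁻¹), mul_mem (inv_mem v.2) (hconjP v)⟩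
  have hf : Function.Injective f := fun u v e => by
    have e' : (u : G)⁻¹ * (y * u * y⁻¹) = (v : G)⁻¹ * (y * v * y⁻¹) := congrArg Subtype.val e
    have hcm : Commute (u : G) (v : G)⁻¹ := by
      obtain ⟨s, hs⟩ := Subgroup.mem_zpowers_iff.1 (hPgen.le u.2)
      obtain ⟨t, ht⟩ := Subgroup.mem_zpowers_iff.1 (hPgen.le v.2)
      rw [← hs, ← ht]; exact (Commute.zpow_zpow_self a s t).inv_right
    by_contra hne
    have hd : (u : G) * (v : G)⁻¹ ≠ 1 := fun e0 => hne (Subtype.ext (mul_inv_eq_one.1 e0))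
    have hdP : (u : G) * (v : G)⁻¹ ∈ P := mul_mem u.2 (inv_mem v.2)
    have hdo : orderOf ((u : G) * (v : G)⁻¹) = p :=
      ((Nat.dvd_prime hp).1 (hP ▸ Subgroup.orderOf_dvd_natCard P hdP)).resolve_left
        fun e0 => hd (orderOf_eq_one_iff.1 e0)
    refine hjp (h.eq_of_commute hp hj (by rw [hdo]) (by rw [hyo]) ?_).symm
    have h3 : y * ((u : G) * (v : G)⁻¹) * y⁻¹ = (u : G) * (v : G)⁻¹ := by
      calc y * ((u : G) * (v : G)⁻¹) * y⁻¹ = (y * u * y⁻¹) * (y * v * y⁻¹)⁻¹ := by group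
        _ = (u : G) * ((u : G)⁻¹ * (y * u * y⁻¹)) * (y * v * y⁻¹)⁻¹ := by group
        _ = (u : G) * (v : G)⁻¹ := by rw [e']; group
    exact (mul_inv_eq_iff_eq_mul.1 h3).symm
  have hyc : c⁻¹ * (y * c * y⁻¹) ∈ P := by
    refine hCM _ (mul_mem (inv_mem hcC) ?_) ?_
    · rw [hC, Subgroup.mem_centralizer_singleton_iff]
      have hb := hCP c hcC _ (show y⁻¹ * a * y ∈ P by
        simpa using (Subgroup.mem_normalizer_iff.1 (inv_mem hyN) a).1 haP)
      calc y * c * y⁻¹ * a = y * (c * (y⁻¹ * a * y)) * y⁻¹ := by group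
        _ = y * ((y⁻¹ * a * y) * c) * y⁻¹ := by rw [hb.eq]
        _ = a * (y * c * y⁻¹) := by group
    · have h4 := (inferInstance : M.Normal).conj_mem y hyM c⁻¹
      have : c⁻¹ * (y * c * y⁻¹) = (c⁻¹ * y * c⁻¹⁻¹) * y⁻¹ := by group
      rw [this]; exact mul_mem h4 (inv_mem hyM)
  obtain ⟨v, hv⟩ := Finite.injective_iff_surjective.1 hf ⟨_, inv_mem hyc⟩
  have hv' : (v : G)⁻¹ * (y * v * y⁻¹) = (c⁻¹ * (y * c * y⁻¹))⁻¹ := congrArg Subtype.val hv
  have hfix : Commute y (c * v) := by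
    have h5 := hCP c hcC v v.2
    have h6 : y * v * y⁻¹ = v * (c⁻¹ * (y * c * y⁻¹))⁻¹ := by rw [← hv']; group
    have h8 := hCP c hcC _ hyc
    show y * (c * v) = c * v * y
    refine mul_inv_eq_iff_eq_mul.1 ?_
    calc y * (c * (v : G)) * y⁻¹ = (y * c * y⁻¹) * (y * v * y⁻¹) := by group
      _ = (c * (c⁻¹ * (y * c * y⁻¹))) * (y * v * y⁻¹) := by group
      _ = ((c⁻¹ * (y * c * y⁻¹)) * c) * ((v : G) * (c⁻¹ * (y * c * y⁻¹))⁻¹) := by rw [h8.eq, h6]
      _ = (c⁻¹ * (y * c * y⁻¹)) * (c * v) * (c⁻¹ * (y * c * y⁻¹))⁻¹ := by group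
      _ = c * v := by
        have h9 : Commute (c⁻¹ * (y * c * y⁻¹)) (c * v) := by
          refine h8.symm.mul_right ?_
          obtain ⟨s, hs⟩ := Subgroup.mem_zpowers_iff.1 (hPgen.le hyc)
          obtain ⟨t, ht⟩ := Subgroup.mem_zpowers_iff.1 (hPgen.le v.2)
          rw [← hs, ← ht]; exact Commute.zpow_zpow_self a s t
        rw [h9.eq, mul_inv_cancel_right]
  by_contra hcn
  have hcv : c * (v : G) ∈ C := mul_mem hcC (by
    rw [hC, Subgroup.mem_centralizer_singleton_iff]
    exact (hCP a (Subgroup.mem_centralizer_singleton_iff.2 rfl) v v.2).eq.symm)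
  obtain ⟨k, hk⟩ := IsPGroup.iff_orderOf.1 hCp ⟨_, hcv⟩
  rw [Subgroup.orderOf_mk] at hk
  have hk0 : k ≠ 0 := fun e => hcn (by
    rw [e, pow_zero, orderOf_eq_one_iff, mul_eq_one_iff_eq_inv] at hk
    exact hk ▸ inv_mem v.2)
  exact hjp (h.eq_of_commute hj hp (by rw [hyo]) (hk ▸ dvd_pow_self p hk0) hfix)

/-- The same from the group order: `d` divides every possible order of `N_M(P)/P`. -/
theorem Pp.eq_top_of_card (h : Pp G) {M : Subgroup G} [M.Normal] {p j m : ℕ} (hp : p.Prime)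
    (hj : j.Prime) (hjp : j ≠ p) (hjj : ¬ j * j ∣ p - 1) (hM : Nat.card M = p * m) (hpm : ¬ p ∣ m)
    (harith : ∀ e, e ∣ m → (m / e) % p = 1 → e ∣ p - 1 → j ∣ e) : M = ⊤ := by
  classical
  haveI := Fact.mk hp
  haveI := Fact.mk hj
  have hp2 : ¬ p * p ∣ Nat.card M := fun hd => hpm (Nat.dvd_of_mul_dvd_mul_left hp.pos (hM ▸ hd))
  obtain ⟨S⟩ : Nonempty (Sylow p M) := inferInstance
  have hS : Nat.card S = p := by
    have h3 : (Nat.card M).factorization p = 1 := by
      refine le_antisymm ?_ (hp.factorization_pos_of_dvd Nat.card_pos.ne' (hM ▸ dvd_mul_right p m))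
      by_contra hlt
      exact hp2 ((pow_two p ▸ pow_dvd_pow p (not_le.1 hlt)).trans (Nat.ordProj_dvd _ p))
    rw [S.card_eq_multiplicity, h3, pow_one]
  set N := Subgroup.normalizer ((S : Subgroup M) : Set M) with hN
  have hidx : Nat.card (Sylow p M) = N.index := Sylow.card_eq_index_normalizer S
  have hmod : Nat.card (Sylow p M) % p = 1 := by
    rw [card_sylow_modEq_one p M, Nat.mod_eq_of_lt hp.one_lt]
  obtain ⟨e, he⟩ : p ∣ Nat.card N := hS ▸ Subgroup.card_dvd_of_le Subgroup.le_normalizer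
  have hem : e * N.index = m := by
    refine Nat.eq_of_mul_eq_mul_left hp.pos ?_
    rw [← mul_assoc, ← he, Subgroup.card_mul_index, hM]
  have hem' : m / e = N.index := by
    rw [← hem, Nat.mul_div_cancel_left _ (Nat.pos_of_ne_zero fun e0 => by
      rw [e0, mul_zero] at he; exact Nat.card_pos.ne' he)]
  haveI : IsCyclic (S : Subgroup M) := isCyclic_of_prime_card hS
  have hep : e ∣ p - 1 := by
    let ψ : N →* MulAut (S : Subgroup M) := (S : Subgroup M).normalizerMonoidHom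
    obtain ⟨a, ha⟩ := exists_prime_orderOf_dvd_card' (G := (S : Subgroup M)) p (by rw [hS])
    have ha' : orderOf (a : M) = p := by rw [Subgroup.orderOf_coe, ha]
    have hker : ψ.ker ≤ (S : Subgroup M).subgroupOf N := by
      intro n hn
      have h1 : ((ψ n a : (S : Subgroup M)) : M) = (a : M) := by
        rw [MonoidHom.mem_ker.1 hn]; rfl
      have h2 : (n : M) * a * (n : M)⁻¹ = a := h1
      have hC := (h.subgroup M).isPGroup_centralizer hp (x := (a : M)) (by rw [ha'])
      have hSC : (S : Subgroup M) ≤ Subgroup.centralizer ({(a : M)} : Set M) := fun s hs =>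
        Subgroup.mem_centralizer_singleton_iff.2 (congrArg Subtype.val
          (IsCyclic.isMulCommutative.is_comm.comm (⟨s, hs⟩ : (S : Subgroup M)) a))
      have := S.is_maximal' hC hSC
      show (n : M) ∈ (S : Subgroup M)
      rw [← this]
      exact Subgroup.mem_centralizer_singleton_iff.2 (mul_inv_eq_iff_eq_mul.1 h2)
    have h3 : Nat.card ψ.ker ∣ p := by
      refine (Subgroup.card_dvd_of_le hker).trans (dvd_of_eq ?_)
      rw [Nat.card_congr (Subgroup.subgroupOfEquivOfLe Subgroup.le_normalizer).toEquiv, hS]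
    have h4 : ψ.ker.index ∣ p - 1 := by
      rw [Subgroup.index_ker]
      have h5 := Subgroup.card_subgroup_dvd_card ψ.range
      rwa [IsCyclic.card_mulAut, hS, Nat.totient_prime hp] at h5
    obtain ⟨u, hu⟩ := h3
    refine dvd_trans ?_ h4
    refine Nat.dvd_of_mul_dvd_mul_left hp.pos ?_
    rw [← he, ← ψ.ker.card_mul_index]
    exact Nat.mul_dvd_mul_right ⟨u, hu⟩ _
  obtain ⟨y, hy⟩ := exists_prime_orderOf_dvd_card' (G := N) j
    (he ▸ (harith e ⟨_, hem.symm⟩ (by rw [hem', ← hidx, hmod]) hep).trans (dvd_mul_left e p))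
  refine h.eq_top_of_normalizer hp hj hjp hjj (P := (S : Subgroup M).map M.subtype)
    (Subgroup.map_subtype_le _)
    (by rw [← Nat.card_congr ((S : Subgroup M).equivMapOfInjective _ M.subtype_injective).toEquiv, hS])
    hp2 (y := ((y : M) : G)) (y : M).2
    (Subgroup.le_normalizer_map _ ⟨(y : M), y.2, rfl⟩) ?_
  rw [Subgroup.orderOf_coe, Subgroup.orderOf_coe, hy]

end CfsgLib.Recog.CIT.Eppo
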