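import Cfsg.Agent.Lib.Recog.CIT.Eppo.SuzukiCount
import Cfsg.Agent.Lib.Recog.SzIso.Suzuki
import Cfsg.Agent.Lib.Recog.ProjSpectrum
import Cfsg.Agent.Lib.Classical.Order
import Cfsg.Agent.S0254

/-!
The simple groups of the classification all of whose element orders are prime powers.
-/

set_option autoImplicit false
set_option linter.dupNamespace false
set_option linter.unusedSectionVars false
set_option linter.style.haveILetI false

namespace CfsgLib.Recog.CIT.Eppo

universe u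

variable {G : Type u} [Group G] [Finite G]

/-- `PSL₂` with field order in the list. -/
def IsL2Small (G : Type*) [Group G] : Prop :=
  ∃ (F : Type) (_ : Field F) (_ : Fintype F), Fintype.card F ∈ ({4, 7, 8, 9, 17} : Finset ℕ) ∧
    Nonempty (G ≃* Matrix.ProjectiveSpecialLinearGroup (Fin 2) F)

/-- The orders of the two cyclic tori of `PSL₂` are prime powers. -/
theorem Pp.tori (hpp : Pp G) {F : Type} [Field F] [Fintype F]
    (e : G ≃* Matrix.ProjectiveSpecialLinearGroup (Fin 2) F) :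
    ((Fintype.card F - 1) / Recog.dTwo F ≠ 1 → IsPrimePow ((Fintype.card F - 1) / Recog.dTwo F)) ∧
      ((Fintype.card F + 1) / Recog.dTwo F ≠ 1 → IsPrimePow ((Fintype.card F + 1) / Recog.dTwo F)) := by
  obtain ⟨p, hp⟩ := CharP.exists F
  haveI := Fact.mk (CharP.char_is_prime F p)
  refine ⟨fun hne => ?_, fun hne => ?_⟩
  · obtain ⟨g, hg⟩ := Recog.exists_orderOf_eq_card_sub_one_PSL (F := F)
    exact hpp.isPrimePow_of_dvd hne (g := e.symm g) (by rw [MulEquiv.orderOf_eq, hg])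
  · obtain ⟨g, hg⟩ := Recog.exists_orderOf_eq_card_add_one_PSL (F := F) p
    exact hpp.isPrimePow_of_dvd hne (g := e.symm g) (by rw [MulEquiv.orderOf_eq, hg])

theorem Pp.isL2Small_of_two (hpp : Pp G) (h : IsL2Two G) : IsL2Small G := by
  obtain ⟨F, _, _, ⟨n, hn, hF⟩, ⟨e⟩⟩ := h
  have h4 : 4 ≤ 2 ^ n := (Nat.pow_le_pow_right two_pos hn).trans' (by norm_num)
  have hd : Recog.dTwo F = 1 := by
    unfold Recog.dTwo
    rw [if_pos (hF ▸ Nat.even_pow.2 ⟨even_two, by omega⟩)]
  obtain ⟨h1, h2⟩ := hpp.tori e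
  rw [hd, Nat.div_one, hF] at h1 h2
  refine ⟨F, inferInstance, inferInstance, ?_, ⟨e⟩⟩
  rw [hF]
  rcases two_pow_pm hn (h1 (by omega)) (h2 (by omega)) with rfl | rfl <;> decide

theorem Pp.isL2Small_of_odd (hpp : Pp G) (h : IsOddType G) : IsL2Small G := by
  obtain ⟨⟨F, _, _, hF, ⟨e⟩⟩, M₁, M₂, -, ⟨e₁⟩, -, -⟩ := h
  refine ⟨F, inferInstance, inferInstance, ?_, ⟨e⟩⟩
  rcases hF with h9 | ⟨hp, k, hk⟩
  · rw [h9]; decide
  have h24 : 24 ∣ Nat.card (Matrix.ProjectiveSpecialLinearGroup (Fin 2) F) := by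
    rw [← Nat.card_congr e.toEquiv]
    have h1 := Subgroup.card_subgroup_dvd_card M₁
    rwa [Nat.card_congr e₁.toEquiv, Nat.card_perm, Nat.card_fin,
      show Nat.factorial 4 = 24 by rfl] at h1
  rw [Classical.card_PSL_two, Nat.card_eq_fintype_card] at h24
  obtain ⟨h1, h2⟩ := hpp.tori e
  have h7 : 7 ≤ Fintype.card F := by
    by_contra hlt
    have := hp.two_le
    generalize Fintype.card F = p at hlt this hp h24
    interval_cases p
    all_goals first | (revert h24; decide) | (revert hp; decide)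
  have hd : Recog.dTwo F = 2 := by
    unfold Recog.dTwo
    rw [if_neg (Nat.not_even_iff_odd.2 (hp.odd_of_ne_two (by omega)))]
  rw [hd] at h1 h2
  generalize Fintype.card F = p at hp hk h1 h2 h7 ⊢
  rcases hk with hk | hk
  · rw [fermat_case hp h7 hk (h2 (by omega))]; decide
  · rw [mersenne_case hp h7 hk (h1 (by omega))]; decide

/-- A simple group with prime-power element orders in the classification. -/
theorem Pp.list [IsSimpleGroup G] (hpp : Pp G) (hK : Known G) :
    IsL2Small G ∨ IsL34 G ∨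
      ∃ (F : Type) (_ : Field F) (_ : Fintype F),
        (Fintype.card F = 8 ∧ Nonempty (G ≃* ↥(Cfsg.Lie.Sz F 4))) ∨
          (Fintype.card F = 32 ∧ Nonempty (G ≃* ↥(Cfsg.Lie.Sz F 8))) := by
  rcases hK with ⟨⟨S, D, q, hd⟩, h2 | hs⟩ | ho | hl
  · exact Or.inl (hpp.isL2Small_of_two h2)
  · obtain ⟨m, -, -, hS⟩ := SzIso.card_eq_of_isSuzuki hd hs
    exact Or.inr (Or.inr (SzIso.sz8_or_sz32 hd hS (SEData.suzuki_cases hd hpp hs).1))
  · exact Or.inl (hpp.isL2Small_of_odd ho)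
  · exact Or.inr (Or.inl hl)

/-- The form of the classification statement. -/
theorem Pp.simple_list [IsSimpleGroup G] (hpp : Pp G) (hK : Known G) :
    Nonempty (G ≃* alternatingGroup (Fin 6)) ∨
    (∃ (F : Type) (_ : Field F) (_ : Fintype F), Fintype.card F ∈ ({4, 7, 8, 17} : Finset ℕ) ∧
      Nonempty (G ≃* Matrix.ProjectiveSpecialLinearGroup (Fin 2) F)) ∨
    (∃ (F : Type) (_ : Field F) (_ : Fintype F), Fintype.card F = 4 ∧
      Nonempty (G ≃* Matrix.ProjectiveSpecialLinearGroup (Fin 3) F)) ∨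
    (∃ (F : Type) (_ : Field F) (_ : Fintype F),
      (Fintype.card F = 8 ∧ Nonempty (G ≃* ↥(Cfsg.Lie.Sz F 4))) ∨
        (Fintype.card F = 32 ∧ Nonempty (G ≃* ↥(Cfsg.Lie.Sz F 8)))) := by
  rcases hpp.list hK with ⟨F, hf, hfi, hF, ⟨e⟩⟩ | hl | hs
  · by_cases h9 : Fintype.card F = 9
    · exact Or.inl ⟨e.trans (Cfsg.Agent.S0254.result h9).some⟩
    · refine Or.inr (Or.inl ⟨F, hf, hfi, ?_, ⟨e⟩⟩)
      simp only [Finset.mem_insert, Finset.mem_singleton] at hF ⊢
      omega
  · exact Or.inr (Or.inr (Or.inl hl))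
  · exact Or.inr (Or.inr (Or.inr hs))

end CfsgLib.Recog.CIT.Eppo
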