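import Cfsg.Agent.Lib.Recog.CIT.Eppo.Simple
import Cfsg.Agent.Lib.Recog.CIT.Eppo.Extension
import Cfsg.Agent.Lib.Recog.CIT.Top
import Cfsg.Agent.S1475
import Cfsg.Agent.Lib.Base.Nilpotent
import Cfsg.Agent.S0033

/-!
Finite groups all of whose element orders are prime powers: at most four primes, and the groups
with four.
-/

set_option autoImplicit false
set_option linter.dupNamespace false
set_option linter.unusedSectionVars false
set_option linter.style.haveILetI false

namespace CfsgLib.Recog.CIT.Eppo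

universe u

theorem card_pf_three {p r s a b c : ℕ} (hp : p.Prime) (hr : r.Prime) (hs : s.Prime) :
    (p ^ a * r ^ b * s ^ c).primeFactors.card ≤ 3 := by
  refine le_trans (Finset.card_le_card (t := {p, r, s}) fun x hx => ?_) Finset.card_le_three
  obtain ⟨hxp, hxd, -⟩ := Nat.mem_primeFactors.1 hx
  simp only [Finset.mem_insert, Finset.mem_singleton]
  rcases hxp.dvd_mul.1 hxd with h | h
  · rcases hxp.dvd_mul.1 h with h | h
    · exact Or.inl ((Nat.prime_dvd_prime_iff_eq hxp hp).1 (hxp.dvd_of_dvd_pow h))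
    · exact Or.inr (Or.inl ((Nat.prime_dvd_prime_iff_eq hxp hr).1 (hxp.dvd_of_dvd_pow h)))
  · exact Or.inr (Or.inr ((Nat.prime_dvd_prime_iff_eq hxp hs).1 (hxp.dvd_of_dvd_pow h)))

theorem card_pf_four {p r s t a b c d : ℕ} (hp : p.Prime) (hr : r.Prime) (hs : s.Prime) (ht : t.Prime) :
    (p ^ a * r ^ b * s ^ c * t ^ d).primeFactors.card ≤ 4 := by
  refine le_trans (Finset.card_le_card (t := {p, r, s, t}) fun x hx => ?_) Finset.card_le_four
  obtain ⟨hxp, hxd, -⟩ := Nat.mem_primeFactors.1 hx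
  simp only [Finset.mem_insert, Finset.mem_singleton]
  rcases hxp.dvd_mul.1 hxd with h | h
  · rcases hxp.dvd_mul.1 h with h | h
    · rcases hxp.dvd_mul.1 h with h | h
      · exact Or.inl ((Nat.prime_dvd_prime_iff_eq hxp hp).1 (hxp.dvd_of_dvd_pow h))
      · exact Or.inr (Or.inl ((Nat.prime_dvd_prime_iff_eq hxp hr).1 (hxp.dvd_of_dvd_pow h)))
    · exact Or.inr (Or.inr (Or.inl ((Nat.prime_dvd_prime_iff_eq hxp hs).1 (hxp.dvd_of_dvd_pow h))))
  · exact Or.inr (Or.inr (Or.inr ((Nat.prime_dvd_prime_iff_eq hxp ht).1 (hxp.dvd_of_dvd_pow h))))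

theorem IsL2Small.card_le {X : Type*} [Group X] (h : IsL2Small X) :
    (Nat.card X).primeFactors.card ≤ 3 := by
  obtain ⟨F, _, _, hF, ⟨e⟩⟩ := h
  rw [Nat.card_congr e.toEquiv, Classical.card_PSL_two, Nat.card_eq_fintype_card]
  simp only [Finset.mem_insert, Finset.mem_singleton] at hF
  rcases hF with h' | h' | h' | h' | h' <;> rw [h'] <;> norm_num
  · rw [show 60 = 2 ^ 2 * 3 ^ 1 * 5 ^ 1 by norm_num]
    exact card_pf_three Nat.prime_two Nat.prime_three Nat.prime_five
  · rw [show 168 = 2 ^ 3 * 3 ^ 1 * 7 ^ 1 by norm_num]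
    exact card_pf_three Nat.prime_two Nat.prime_three (by norm_num)
  · rw [show 504 = 2 ^ 3 * 3 ^ 2 * 7 ^ 1 by norm_num]
    exact card_pf_three Nat.prime_two Nat.prime_three (by norm_num)
  · rw [show 360 = 2 ^ 3 * 3 ^ 2 * 5 ^ 1 by norm_num]
    exact card_pf_three Nat.prime_two Nat.prime_three Nat.prime_five
  · rw [show 2448 = 2 ^ 4 * 3 ^ 2 * 17 ^ 1 by norm_num]
    exact card_pf_three Nat.prime_two Nat.prime_three (by norm_num)

theorem card_of_isL34 {X : Type*} [Group X] (h : IsL34 X) : Nat.card X = 20160 := by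
  obtain ⟨F, _, _, hF, ⟨e⟩⟩ := h
  rw [Nat.card_congr e.toEquiv, Classical.card_PSL_fin 3 (by norm_num), Classical.card_SL_fin',
    Nat.card_eq_fintype_card, hF]
  decide

variable {G : Type u} [Group G] [Finite G]

/-- A normal subgroup with trivial centraliser carries every prime of the group. -/
theorem Pp.primeFactors_subset (h : Pp G) (E : Subgroup G) [E.Normal] [IsSimpleGroup E]
    (hE : ∃ a b : E, a * b ≠ b * a) (hc : Subgroup.centralizer (E : Set G) = ⊥) :
    (Nat.card G).primeFactors ⊆ (Nat.card E).primeFactors := by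
  intro r hr
  obtain ⟨hrp, hrd, -⟩ := Nat.mem_primeFactors.1 hr
  by_contra hne
  have hrE : ¬ r ∣ Nat.card E := fun hd => hne (Nat.mem_primeFactors.2 ⟨hrp, hd, Nat.card_pos.ne'⟩)
  haveI := Fact.mk hrp
  obtain ⟨y, hy⟩ := exists_prime_orderOf_dvd_card' (G := G) r hrd
  let φ : MulAut E := MulAut.conjNormal (H := E) y
  have hφr : φ ^ r = 1 := by rw [← map_pow, ← hy, pow_orderOf_eq_one, map_one]
  have hφ1 : φ ≠ 1 := fun e => by
    have hyc : y ∈ Subgroup.centralizer (E : Set G) := Subgroup.mem_centralizer_iff.2 fun v hv => by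
      have h1 := congrArg (fun f : MulAut E => ((f ⟨v, hv⟩ : E) : G)) e
      have h2 : y * v * y⁻¹ = v := h1
      exact (mul_inv_eq_iff_eq_mul.1 h2).symm
    rw [hc, Subgroup.mem_bot] at hyc
    rw [hyc, orderOf_one] at hy
    exact hrp.ne_one hy.symm
  have hfpf : MonoidHom.FixedPointFree ((φ : E ≃* E) : E →* E) := fun v hv => by
    by_contra hv1
    have h1 : y * (v : G) * y⁻¹ = v := congrArg Subtype.val hv
    have hv1' : (v : G) ≠ 1 := fun e => hv1 (Subtype.ext e)
    obtain ⟨s, hs, hsd⟩ := Nat.exists_prime_and_dvd (fun e => hv1' (orderOf_eq_one_iff.1 e) :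
      orderOf (v : G) ≠ 1)
    have hsr := h.eq_of_commute hrp hs (by rw [hy]) hsd (mul_inv_eq_iff_eq_mul.1 h1)
    exact hrE (hsr ▸ hsd.trans (Subgroup.orderOf_dvd_natCard E v.2))
  haveI : Group.IsNilpotent E :=
    Cfsg.Agent.S0033.result (φ : E ≃* E) hfpf r hrp (orderOf_eq_prime hφr hφ1)
  obtain ⟨a, b, hab⟩ := hE
  exact hab (IsSimpleGroup.comm_iff_isSolvable.2 inferInstance a b)

/-- The structure theorem, given the classification of the simple groups involved. -/
theorem Pp.structure (h : Pp G)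
    (hK : ∀ (X : Type u) [Group X] [Finite X], IsSimpleGroup X → (∃ a b : X, a * b ≠ b * a) →
      CIT X → Known X)
    (hno : ∀ {M Y : Type u} [Group M] [Finite M] [Group Y] (π : M →* Y),
      CIT M → Function.Surjective π → IsPGroup 2 π.ker → π.ker ≠ ⊥ →
      ∀ X : Subgroup Y, ¬ IsOddType X ∧ ¬ IsL34 X) :
    (Nat.card G).primeFactors.card ≤ 4 ∧
    ((Nat.card G).primeFactors.card = 4 →
      (∃ (F : Type) (_ : Field F) (_ : Fintype F), Fintype.card F = 4 ∧
        Nonempty (G ≃* Matrix.ProjectiveSpecialLinearGroup (Fin 3) F)) ∨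
      (∃ (N : Subgroup G) (_ : N.Normal), IsPGroup 2 ↥N ∧
        ∃ (F : Type) (_ : Field F) (_ : Fintype F),
          (Fintype.card F = 8 ∧ Nonempty (G ⧸ N ≃* ↥(Cfsg.Lie.Sz F 4))) ∨
          (Fintype.card F = 32 ∧ Nonempty (G ⧸ N ≃* ↥(Cfsg.Lie.Sz F 8))))) := by
  classical
  haveI : Fact (Nat.Prime 2) := ⟨Nat.prime_two⟩
  by_cases hsol : Group.IsSolvable G
  · haveI := hsol
    have h2 := Cfsg.Agent.S1475.result (G := G) (fun g => by
      rcases eq_or_ne g 1 with e | e
      · exact Or.inr e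
      · exact Or.inl (h g e))
    exact ⟨by omega, fun h4 => by omega⟩
  set N := Cfsg.pCore 2 G with hN
  haveI : N.Normal := Cfsg.pCore_normal 2 G
  have hNp : IsPGroup 2 N := Base.isPGroup_pCore 2 G
  have hπ := QuotientGroup.mk'_surjective N
  have hker : (QuotientGroup.mk' N).ker = N := QuotientGroup.ker_mk' _
  have hY : Pp (G ⧸ N) := h.of_surjective _ hπ
  have hYns : ¬ Group.IsSolvable (G ⧸ N) := fun hs =>
    hsol (isSolvable_of_normal N (haveI := hNp.isNilpotent; inferInstance) hs)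
  obtain ⟨E, hEn, hEs, hEnab, hEc⟩ := exists_simple_normal hY.cit hYns (Base.pCore_quotient_pCore 2 G)
  haveI := hEn
  haveI := hEs
  -- the primes of `G` are those of `E`
  have h2E : 2 ∈ (Nat.card E).primeFactors := by
    refine Nat.mem_primeFactors.2 ⟨Nat.prime_two, ?_, Nat.card_pos.ne'⟩
    by_contra hd
    obtain ⟨a, b, hab⟩ := hEnab
    exact hab (IsSimpleGroup.comm_iff_isSolvable.2 (isSolvable_of_card_odd (K := E)
      (Nat.odd_iff.2 (by omega))) a b)
  have hsub : (Nat.card G).primeFactors ⊆ (Nat.card E).primeFactors := by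
    intro r hr
    obtain ⟨hrp, hrd, -⟩ := Nat.mem_primeFactors.1 hr
    rw [Subgroup.card_eq_card_quotient_mul_card_subgroup N] at hrd
    rcases hrp.dvd_mul.1 hrd with hd | hd
    · exact hY.primeFactors_subset E hEnab hEc (Nat.mem_primeFactors.2 ⟨hrp, hd, Nat.card_pos.ne'⟩)
    · obtain ⟨k, hk⟩ := hNp.exists_card_eq
      rw [hk] at hd
      rwa [(Nat.prime_dvd_prime_iff_eq hrp Nat.prime_two).1 (hrp.dvd_of_dvd_pow hd)]
  have hle := Finset.card_le_card hsub
  have small : IsL2Small E → (Nat.card G).primeFactors.card ≤ 3 := fun hs => hle.trans hs.card_le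
  have hEpp := hY.subgroup E
  rcases hK E hEs hEnab hEpp.cit with ⟨⟨S, D, q, hd⟩, h2 | hs⟩ | ho | hl
  · have := small (hEpp.isL2Small_of_two h2)
    exact ⟨by omega, fun h4 => by omega⟩
  · have hEtop := eq_top_of_seData hY.cit E hd
    obtain ⟨m, -, -, hS⟩ := SzIso.card_eq_of_isSuzuki hd hs
    obtain ⟨hq, hcard⟩ := SEData.suzuki_cases hd hEpp hs
    refine ⟨hle.trans ?_, fun _ => Or.inr ⟨N, inferInstance, hNp, ?_⟩⟩
    · rw [hcard]
      rcases hq with rfl | rfl
      · norm_num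
        rw [show 29120 = 2 ^ 6 * 5 ^ 1 * 7 ^ 1 * 13 ^ 1 by norm_num]
        exact card_pf_four Nat.prime_two Nat.prime_five (by norm_num) (by norm_num)
      · norm_num
        rw [show 32537600 = 2 ^ 10 * 5 ^ 2 * 31 ^ 1 * 41 ^ 1 by norm_num]
        exact card_pf_four Nat.prime_two Nat.prime_five (by norm_num) (by norm_num)
    · have eY : G ⧸ N ≃* E := Subgroup.topEquiv.symm.trans (MulEquiv.subgroupCongr hEtop.symm)
      obtain ⟨F, i1, i2, ⟨hF, ⟨e⟩⟩ | ⟨hF, ⟨e⟩⟩⟩ := SzIso.sz8_or_sz32 hd hS hq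
      · exact ⟨F, i1, i2, Or.inl ⟨hF, ⟨eY.trans e⟩⟩⟩
      · exact ⟨F, i1, i2, Or.inr ⟨hF, ⟨eY.trans e⟩⟩⟩
  · have := small (hEpp.isL2Small_of_odd ho)
    exact ⟨by omega, fun h4 => by omega⟩
  · have hcard := card_of_isL34 hl
    refine ⟨hle.trans ?_, fun _ => Or.inl ?_⟩
    · rw [hcard, show 20160 = 2 ^ 6 * 3 ^ 2 * 5 ^ 1 * 7 ^ 1 by norm_num]
      exact card_pf_four Nat.prime_two Nat.prime_three Nat.prime_five (by norm_num)
    have hNbot : N = ⊥ := by
      by_contra hne
      exact (hno (QuotientGroup.mk' N) h.cit hπ (hker.symm ▸ hNp) (hker.symm ▸ hne) E).2 hl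
    have hEtop : E = ⊤ := hY.eq_top_of_card (p := 7) (j := 3) (m := 2880) (by norm_num) Nat.prime_three
      (by norm_num) (by norm_num) (by rw [hcard]) (by norm_num) (fun e he hmod he6 => by
        have := Nat.le_of_dvd (by norm_num) he6
        interval_cases e
        all_goals first | omega | norm_num)
    obtain ⟨F, i1, i2, hF, ⟨e⟩⟩ := hl
    have eY : G ⧸ N ≃* E := Subgroup.topEquiv.symm.trans (MulEquiv.subgroupCongr hEtop.symm)
    exact ⟨F, i1, i2, hF,
      ⟨((QuotientGroup.quotientBot (G := G)).symm.trans (QuotientGroup.quotientMulEquivOfEq hNbot.symm)).trans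
        (eY.trans e)⟩⟩

end CfsgLib.Recog.CIT.Eppo
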