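import Cfsg.Agent.Lib.Recog.CIT.Eppo.SuzukiSylow
import Cfsg.Agent.Lib.Recog.CIT.Eppo.Arith
import Cfsg.Agent.Lib.Recog.CIT.Eppo.CountArith
import Cfsg.Prelude.Def_Exceptional

/-!
A simple group of Suzuki order with strongly embedded data all of whose element orders are prime
powers has `q = 8` or `q = 32`.
-/

set_option autoImplicit false
set_option linter.dupNamespace false
set_option linter.unusedSectionVars false
set_option linter.style.haveILetI false

namespace CfsgLib.Recog.CIT.Eppo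

open EPPOTwo (IsTwo isTwo_of_mem)

universe u

variable {G : Type u} [Group G] [Finite G]

variable (G) in
/-- The nontrivial elements of order divisible by `p`. -/
noncomputable def el (p : ℕ) : Finset G :=
  (Set.toFinite {x : G | x ≠ 1 ∧ p ∣ orderOf x}).toFinset

theorem mem_el {p : ℕ} {x : G} : x ∈ el G p ↔ x ≠ 1 ∧ p ∣ orderOf x := Set.Finite.mem_toFinset _

variable (G) in
/-- Some element of order divisible by `p` is inverted by an involution. -/
def RealPrime (p : ℕ) : Prop :=
  ∃ x : G, x ≠ 1 ∧ p ∣ orderOf x ∧ ∃ t : G, orderOf t = 2 ∧ t * x * t⁻¹ = x⁻¹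

/-- The number of involutions inverting `x`. -/
noncomputable def invCount (x : G) : ℕ := Nat.card {t : G // orderOf t = 2 ∧ t * x * t⁻¹ = x⁻¹}

theorem Pp.mem_el_iff (h : Pp G) {p : ℕ} (hp : p.Prime) {x : G} :
    x ∈ el G p ↔ x ≠ 1 ∧ (orderOf x).minFac = p := by
  rw [mem_el]
  refine and_congr_right fun hx => ?_
  have hne : orderOf x ≠ 1 := fun e => hx (orderOf_eq_one_iff.1 e)
  exact ⟨fun hd => h.prime_unique (Nat.minFac_prime hne) hp (Nat.minFac_dvd _) hd,
    fun e => e ▸ Nat.minFac_dvd _⟩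

theorem Pp.card_eq_sum (h : Pp G) :
    Nat.card G = 1 + ∑ p ∈ (Nat.card G).primeFactors, (el G p).card := by
  classical
  haveI := Fintype.ofFinite G
  have hmaps : Set.MapsTo (fun x : G => (orderOf x).minFac) (Finset.univ.erase 1 : Finset G)
      ((Nat.card G).primeFactors : Finset ℕ) := by
    intro x hx
    have hx1 : x ≠ 1 := (Finset.mem_erase.1 (Finset.mem_coe.1 hx)).1
    have hne : orderOf x ≠ 1 := fun e => hx1 (orderOf_eq_one_iff.1 e)
    exact Finset.mem_coe.2 (Nat.mem_primeFactors.2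
      ⟨Nat.minFac_prime hne, (Nat.minFac_dvd _).trans (orderOf_dvd_natCard x), Nat.card_pos.ne'⟩)
  have h1 := Finset.card_eq_sum_card_fiberwise hmaps
  rw [Finset.card_erase_of_mem (Finset.mem_univ _), Finset.card_univ, ← Nat.card_eq_fintype_card] at h1
  have h2 : ∀ p ∈ (Nat.card G).primeFactors,
      ((Finset.univ.erase 1).filter fun x : G => (orderOf x).minFac = p).card = (el G p).card := by
    intro p hp
    congr 1
    ext x
    rw [h.mem_el_iff (Nat.prime_of_mem_primeFactors hp), Finset.mem_filter, Finset.mem_erase]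
    simp
  rw [Finset.sum_congr rfl h2] at h1
  have : 0 < Nat.card G := Nat.card_pos
  omega

/-- Class sizes give a divisibility. -/
theorem Pp.card_dvd_el (h : Pp G) {p : ℕ} (hp : p.Prime) :
    Nat.card G ∣ (el G p).card * p ^ (Nat.card G).factorization p := by
  classical
  haveI := Fintype.ofFinite G
  have hmaps : Set.MapsTo (ConjClasses.mk : G → ConjClasses G) (el G p : Set G)
      ((el G p).image ConjClasses.mk : Set (ConjClasses G)) := fun x hx =>
    Finset.mem_coe.2 (Finset.mem_image_of_mem _ hx)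
  rw [Finset.card_eq_sum_card_fiberwise hmaps, Finset.sum_mul]
  refine Finset.dvd_sum fun c hc => ?_
  obtain ⟨x, hx, rfl⟩ := Finset.mem_image.1 hc
  rw [mem_el] at hx
  have hfib : ((el G p).filter fun y => ConjClasses.mk y = ConjClasses.mk x).card =
      Nat.card (MulAction.orbit (ConjAct G) x) := by
    rw [Nat.card_eq_fintype_card, ← Set.toFinset_card]
    congr 1
    ext y
    rw [Finset.mem_filter, mem_el, Set.mem_toFinset, ConjAct.mem_orbit_conjAct,
      ConjClasses.mk_eq_mk_iff_isConj]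
    refine ⟨fun hy => hy.2, fun hy => ⟨?_, hy⟩⟩
    obtain ⟨g, rfl⟩ := isConj_iff.1 hy.symm
    refine ⟨fun e => hx.1 (conj_eq_one_iff.1 e), ?_⟩
    rw [← MulAut.conj_apply, MulEquiv.orderOf_eq]
    exact hx.2
  rw [hfib]
  have hC : IsPGroup p (Subgroup.centralizer ({x} : Set G)) := h.isPGroup_centralizer hp hx.2
  haveI := Fact.mk hp
  obtain ⟨i, hi⟩ := hC.exists_card_eq
  have hdvd : Nat.card (Subgroup.centralizer ({x} : Set G)) ∣ p ^ (Nat.card G).factorization p := by
    rw [hi]
    exact pow_dvd_pow p ((hp.pow_dvd_iff_le_factorization Nat.card_pos.ne').1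
      (hi ▸ Subgroup.card_subgroup_dvd_card _))
  obtain ⟨u, hu⟩ := hdvd
  refine ⟨u, ?_⟩
  rw [hu, ← mul_assoc]
  congr 1
  have e := Subgroup.card_mul_index (MulAction.stabilizer (ConjAct G) x)
  rw [MulAction.index_stabilizer, ← Nat.card_coe_set_eq] at e
  have e' : Nat.card (MulAction.stabilizer (ConjAct G) x) =
      Nat.card (Subgroup.centralizer ({x} : Set G)) := by
    refine Nat.card_congr (ConjAct.toConjAct.symm.toEquiv.subtypeEquiv fun g => ?_)
    rw [MulAction.mem_stabilizer_iff, ConjAct.smul_def, Subgroup.mem_centralizer_singleton_iff,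
      mul_inv_eq_iff_eq_mul]
    rfl
  rw [e'] at e
  rw [mul_comm, e]
  exact Nat.card_congr ConjAct.ofConjAct.toEquiv

variable {S D : Subgroup G} {q : ℕ}

/-- The Sylow subgroups for real primes. -/
theorem SEData.real_structure (h : SEData G S D q) (hpp : Pp G) (hS : Nat.card S = q * q) {p : ℕ}
    (hp : p.Prime) (hp2 : p ≠ 2) (hr : RealPrime G p) :
    ∃ f e : ℕ, (e = 2 ∨ e = 4) ∧ e * f + 1 = p ^ (Nat.card G).factorization p ∧
      (el G p).card * p ^ (Nat.card G).factorization p = f * Nat.card G ∧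
      ∀ x ∈ el G p, invCount x = p ^ (Nat.card G).factorization p := by
  classical
  haveI := Fact.mk hp
  haveI : Fact (Nat.Prime 2) := ⟨Nat.prime_two⟩
  have hc := hpp.cit
  obtain ⟨x₀, hx₀, hpx₀, t, ht, htx⟩ := hr
  have htt := EPPOTwo.sq_eq_one_of_orderOf ht
  have hti : t⁻¹ = t := inv_eq_of_mul_eq_one_right htt
  have hodd_of : ∀ {x : G}, x ≠ 1 → p ∣ orderOf x → Odd (orderOf x) := fun {x} _ hd => by
    obtain ⟨k, hk⟩ := hpp.exists_pow hp hd
    rw [hk]; exact (hp.odd_of_ne_two hp2).pow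
  -- an involution inverting `x` inverts its centraliser
  have hinvC : ∀ {x : G}, x ≠ 1 → p ∣ orderOf x → t * x * t⁻¹ = x⁻¹ →
      ∀ v ∈ Subgroup.centralizer ({x} : Set G), t * v * t⁻¹ = v⁻¹ := by
    intro x hx hpx hix v hv
    set C := Subgroup.centralizer ({x} : Set G) with hC
    have hnorm : t ∈ Subgroup.normalizer (C : Set G) := by
      refine Subgroup.mem_normalizer_iff.2 fun w => ?_
      rw [hC, Subgroup.mem_centralizer_singleton_iff, Subgroup.mem_centralizer_singleton_iff]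
      have hxi : t * x⁻¹ * t⁻¹ = x := by
        rw [show t * x⁻¹ * t⁻¹ = (t * x * t⁻¹)⁻¹ by group, hix, inv_inv]
      constructor
      · intro hw
        have hw' : Commute w x⁻¹ := (show Commute w x from hw).inv_right
        calc t * w * t⁻¹ * x = t * w * t⁻¹ * (t * x⁻¹ * t⁻¹) := by rw [hxi]
          _ = t * (w * x⁻¹) * t⁻¹ := by group
          _ = t * (x⁻¹ * w) * t⁻¹ := by rw [hw'.eq]
          _ = (t * x⁻¹ * t⁻¹) * (t * w * t⁻¹) := by group
          _ = _ := by rw [hxi]
      · intro hw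
        have hw' : Commute (t * w * t⁻¹) x := hw
        have hw'' := hw'.inv_right
        rw [← hix] at hw''
        calc w * x = t⁻¹ * ((t * w * t⁻¹) * (t * x * t⁻¹)) * t := by group
          _ = t⁻¹ * ((t * x * t⁻¹) * (t * w * t⁻¹)) * t := by rw [hw''.eq]
          _ = _ := by group
    have hCodd : ∀ w ∈ C, w ≠ 1 → p ∣ orderOf w := fun w hw hw1 => by
      obtain ⟨k, hk⟩ := IsPGroup.iff_orderOf.1 (hpp.isPGroup_centralizer hp hpx) ⟨w, hw⟩
      rw [Subgroup.orderOf_mk] at hk
      rcases k with _ | k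
      · exact absurd (orderOf_eq_one_iff.1 (hk.trans (pow_zero p))) hw1
      · exact hk ▸ dvd_pow_self p k.succ_ne_zero
    have hfpf : Base.IsFPF (Subgroup.zpowers t) C := by
      refine ⟨Subgroup.zpowers_le.2 hnorm, fun a ha ha1 => (Subgroup.eq_bot_iff_forall _).2 fun w hw => ?_⟩
      by_contra hw1
      have hat : a = t := by
        obtain ⟨i, rfl⟩ := Subgroup.mem_zpowers_iff.1 ha
        obtain ⟨j, rfl | rfl⟩ := Int.even_or_odd' i
        · exact absurd (by rw [zpow_mul, show t ^ (2 : ℤ) = 1 by rw [zpow_two, htt], one_zpow]) ha1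
        · rw [zpow_add, zpow_mul, show t ^ (2 : ℤ) = 1 by rw [zpow_two, htt], one_zpow, one_mul, zpow_one]
      subst hat
      exact hp2 (hpp.eq_of_commute hp Nat.prime_two (hCodd w hw.1 hw1) (by rw [ht])
        (Subgroup.mem_centralizer_iff.1 hw.2 a rfl).symm)
    exact hfpf.conj_eq_inv (Subgroup.mem_zpowers t) (fun e => by rw [e, orderOf_one] at ht; omega) htt hv
  set A := Subgroup.centralizer ({x₀} : Set G) with hA
  have hAp : IsPGroup p A := hpp.isPGroup_centralizer hp hpx₀
  have hAinv : ∀ v ∈ A, t * v * t⁻¹ = v⁻¹ := hinvC hx₀ hpx₀ htx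
  -- an inverted subgroup is abelian
  have hab : ∀ K : Subgroup G, (∀ v ∈ K, t * v * t⁻¹ = v⁻¹) → ∀ u ∈ K, ∀ v ∈ K, u * v = v * u := by
    intro K hK u hu v hv
    have h1 : t * (u * v) * t⁻¹ = (t * u * t⁻¹) * (t * v * t⁻¹) := by group
    rw [hK u hu, hK v hv, hK _ (mul_mem hu hv), ← mul_inv_rev, inv_inj] at h1
    exact h1
  have hAab := hab A hAinv
  have hpA : ∀ v ∈ A, v ≠ 1 → p ∣ orderOf v := fun v hv hv1 => by
    obtain ⟨k, hk⟩ := IsPGroup.iff_orderOf.1 hAp ⟨v, hv⟩
    rw [Subgroup.orderOf_mk] at hk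
    rcases k with _ | k
    · exact absurd (orderOf_eq_one_iff.1 (hk.trans (pow_zero p))) hv1
    · exact hk ▸ dvd_pow_self p k.succ_ne_zero
  -- it is a Sylow subgroup
  obtain ⟨P, hP⟩ := hAp.exists_le_sylow
  have hPA : (P : Subgroup G) = A := by
    haveI : Nontrivial (P : Subgroup G) :=
      ⟨⟨x₀, hP (Subgroup.mem_centralizer_singleton_iff.2 rfl)⟩, 1, fun e => hx₀ (congrArg Subtype.val e)⟩
    haveI := P.isPGroup'.center_nontrivial
    obtain ⟨⟨⟨z, hzP⟩, hzZ⟩, hz1⟩ := exists_ne (1 : Subgroup.center (P : Subgroup G))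
    have hz1' : z ≠ 1 := fun e => hz1 (Subtype.ext (Subtype.ext e))
    have hzc : ∀ v ∈ (P : Subgroup G), v * z = z * v := fun v hv =>
      congrArg Subtype.val (Subgroup.mem_center_iff.1 hzZ ⟨v, hv⟩)
    have hzA : z ∈ A := Subgroup.mem_centralizer_singleton_iff.2
      (hzc x₀ (hP (Subgroup.mem_centralizer_singleton_iff.2 rfl))).symm
    have hPC : ∀ v ∈ (P : Subgroup G), t * v * t⁻¹ = v⁻¹ := fun v hv =>
      hinvC hz1' (hpA z hzA hz1') (hAinv z hzA) v
        (Subgroup.mem_centralizer_singleton_iff.2 (hzc v hv))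
    refine le_antisymm (fun v hv => Subgroup.mem_centralizer_singleton_iff.2 ?_) hP
    exact hab _ hPC v hv x₀ (hP (Subgroup.mem_centralizer_singleton_iff.2 rfl))
  set a := p ^ (Nat.card G).factorization p with ha
  have hAcard : Nat.card A = a := by rw [← hPA]; exact P.card_eq_multiplicity
  have hCeq : ∀ y ∈ A, y ≠ 1 → Subgroup.centralizer ({y} : Set G) = A := fun y hy hy1 => by
    have h1 : A ≤ Subgroup.centralizer ({y} : Set G) := fun v hv =>
      Subgroup.mem_centralizer_singleton_iff.2 (hAab v hv y hy)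
    have h2 := P.is_maximal' (hpp.isPGroup_centralizer hp (hpA y hy hy1)) (hPA ▸ h1)
    rw [h2, hPA]
  -- every element of `el p` is conjugate into `A`
  have hconj : ∀ x, x ≠ 1 → p ∣ orderOf x → ∃ g : G, g⁻¹ * x * g ∈ A := by
    intro x _ hpx
    obtain ⟨k, hk⟩ := hpp.exists_pow hp hpx
    obtain ⟨R, hR⟩ := (IsPGroup.of_card (G := Subgroup.zpowers x) (n := k)
      (by rw [Nat.card_zpowers, hk])).exists_le_sylow
    obtain ⟨g, hg⟩ := MulAction.exists_smul_eq G P R
    refine ⟨g, ?_⟩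
    have hxR : x ∈ ((g • P : Sylow p G) : Subgroup G) := by rw [hg]; exact hR (Subgroup.mem_zpowers x)
    rw [Sylow.coe_subgroup_smul, Subgroup.mem_pointwise_smul_iff_inv_smul_mem, hPA] at hxR
    simpa [MulAut.smul_def, ← map_inv] using hxR
  set N := Subgroup.normalizer (A : Set G) with hN
  have htiA : ∀ g x : G, x ∈ A → g * x * g⁻¹ ∈ A → x ≠ 1 → g ∈ N := by
    intro g x hx hgx hx1
    have h1 := hCeq x hx hx1
    have h2 := hCeq _ hgx (fun e => hx1 (conj_eq_one_iff.1 e))
    refine Subgroup.mem_normalizer_iff.2 fun v => ?_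
    conv_lhs => rw [← h1]
    rw [← h2, Subgroup.mem_centralizer_singleton_iff, Subgroup.mem_centralizer_singleton_iff]
    constructor
    · intro e
      calc g * v * g⁻¹ * (g * x * g⁻¹) = g * (v * x) * g⁻¹ := by group
        _ = _ := by rw [e]; group
    · intro e
      calc v * x = g⁻¹ * ((g * v * g⁻¹) * (g * x * g⁻¹)) * g := by group
        _ = _ := by rw [e]; group
  have hel : (el G p).card = N.index * (a - 1) := by
    have h2 := card_conj_TI A htiA (fun _ => True) (fun _ _ _ => trivial)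
    have e2 : Nat.card {x : G // x ∈ A ∧ x ≠ 1 ∧ True} = a - 1 := by
      rw [← hAcard, ← Nat.card_congr (Equiv.optionSubtypeNe (1 : A)), Finite.card_option, Nat.add_sub_cancel]
      exact Nat.card_congr
        { toFun := fun x => ⟨⟨x, x.2.1⟩, fun e => x.2.2.1 (congrArg Subtype.val e)⟩
          invFun := fun s => ⟨((s : A) : G), (s : A).2, fun e => s.2 (Subtype.ext e), trivial⟩
          left_inv := fun _ => rfl
          right_inv := fun _ => rfl }
    rw [← e2, ← h2, el, ← Nat.card_eq_card_finite_toFinset]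
    refine Nat.card_congr (Equiv.subtypeEquivRight fun x => ⟨fun hx => ⟨hx.1, trivial, hconj x hx.1 hx.2⟩,
      fun hx => ⟨hx.1, ?_⟩⟩)
    obtain ⟨g, hg⟩ := hx.2.2
    have := hpA _ hg (fun e => hx.1 (by
      calc x = g * (g⁻¹ * x * g) * g⁻¹ := by group
        _ = 1 := by rw [e]; group))
    rwa [show g⁻¹ * x * g = MulAut.conj g⁻¹ x by simp, MulEquiv.orderOf_eq] at this
  -- the normaliser
  set E := N ⊓ Subgroup.centralizer ({t} : Set G) with hE
  have htN : t ∈ N := by
    refine Subgroup.mem_normalizer_iff.2 fun v => ⟨fun hv => by rw [hAinv v hv]; exact inv_mem hv, fun hv => ?_⟩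
    have := hAinv _ hv
    rw [show t * (t * v * t⁻¹) * t⁻¹ = v by
      calc t * (t * v * t⁻¹) * t⁻¹ = (t * t) * v * (t * t)⁻¹ := by group
        _ = v := by rw [htt]; group] at this
    rw [this]; exact inv_mem hv
  have hNA : Nat.card N = a * Nat.card E := by
    rw [← hAcard, ← Nat.card_prod]
    symm
    refine Nat.card_eq_of_bijective (fun z : A × E => (⟨(z.1 : G) * z.2,
      mul_mem (Subgroup.le_normalizer z.1.2) z.2.2.1⟩ : N)) ⟨?_, ?_⟩
    · rintro ⟨u, e⟩ ⟨u', e'⟩ he
      have he' : (u : G) * e = u' * e' := congrArg Subtype.val he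
      have h3 : (u' : G)⁻¹ * u = (e' : G) * (e : G)⁻¹ := by
        calc (u' : G)⁻¹ * u = (u' : G)⁻¹ * (u * e) * (e : G)⁻¹ := by group
          _ = _ := by rw [he']; group
      have h4 : (u' : G)⁻¹ * u = 1 := by
        by_contra hne
        have hcm : Commute ((u' : G)⁻¹ * u) t := by
          rw [h3]
          exact Subgroup.mem_centralizer_singleton_iff.1 (mul_mem e'.2.2 (inv_mem e.2.2))
        exact hp2 (hpp.eq_of_commute hp Nat.prime_two
          (hpA _ (mul_mem (inv_mem u'.2) u.2) hne) (by rw [ht]) hcm)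
      have h5 : (u' : G) = u := inv_mul_eq_one.1 h4
      rw [h5] at he'
      exact Prod.ext (Subtype.ext h5.symm) (Subtype.ext (mul_left_cancel he'))
    · rintro ⟨n, hn⟩
      set c := n * t * n⁻¹ * t⁻¹ with hcdef
      have hcA : c ∈ A := by
        rw [hA, Subgroup.mem_centralizer_singleton_iff]
        have h6 : ∀ v ∈ A, c * v * c⁻¹ = v := by
          intro v hv
          have e1 : t⁻¹ * v * t = v⁻¹ := by rw [hti]; simpa [hti] using hAinv v hv
          have hw : n⁻¹ * v⁻¹ * n ∈ A := by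
            simpa using (Subgroup.mem_normalizer_iff.1 (inv_mem hn) v⁻¹).1 (inv_mem hv)
          calc c * v * c⁻¹ = n * (t * (n⁻¹ * (t⁻¹ * v * t) * n) * t⁻¹) * n⁻¹ := by rw [hcdef]; group
            _ = n * (t * (n⁻¹ * v⁻¹ * n) * t⁻¹) * n⁻¹ := by rw [e1]
            _ = v := by rw [hAinv _ hw]; group
        exact mul_inv_eq_iff_eq_mul.1 (h6 x₀ (Subgroup.mem_centralizer_singleton_iff.2 rfl))
      have hcodd : Odd (Nat.card A) := by rw [hAcard, ha]; exact (hp.odd_of_ne_two hp2).pow
      obtain ⟨d, hd⟩ := (powCoprime (Nat.coprime_two_right.2 hcodd)).surjective ⟨c, hcA⟩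
      have hd' : (d : G) ^ 2 = c := congrArg Subtype.val hd
      have hdt : (d : G)⁻¹ * n ∈ Subgroup.centralizer ({t} : Set G) := by
        rw [Subgroup.mem_centralizer_singleton_iff]
        have e1 : n * t * n⁻¹ = (d : G) ^ 2 * t := by rw [hd', hcdef]; group
        have e2 : t * (d : G)⁻¹ * t⁻¹ = d := by rw [hAinv _ (inv_mem d.2), inv_inv]
        calc (d : G)⁻¹ * n * t = (d : G)⁻¹ * (n * t * n⁻¹) * n := by group
          _ = (d : G) * t * n := by rw [e1, pow_two]; group
          _ = t * (d : G)⁻¹ * t⁻¹ * t * n := by rw [e2]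
          _ = _ := by group
      exact ⟨(d, ⟨(d : G)⁻¹ * n, mul_mem (Subgroup.le_normalizer (inv_mem d.2)) hn, hdt⟩),
        Subtype.ext (mul_inv_cancel_left _ _)⟩
  -- `E` has order two or four
  obtain ⟨g, hgt, hgC⟩ := SEData.centralizer_invol h ht
  have hEp : IsPGroup 2 E := (hc t ht).to_le inf_le_right
  obtain ⟨hsq4, hsqi⟩ := SEData.squares h hc hS
  have hEt : ∀ y ∈ E, y * y = 1 → y = 1 ∨ y = t := by
    intro y hy hy2
    by_contra hne
    push Not at hne
    have hyi : ∀ v ∈ A, y * v * y⁻¹ = v⁻¹ := by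
      have hfpf : Base.IsFPF (Subgroup.zpowers y) A := by
        refine ⟨Subgroup.zpowers_le.2 hy.1, fun b hb hb1 => (Subgroup.eq_bot_iff_forall _).2 fun w hw => ?_⟩
        by_contra hw1
        have hby : orderOf b = 2 := by
          refine EPPOTwo.orderOf_eq_two ?_ hb1
          obtain ⟨i, rfl⟩ := Subgroup.mem_zpowers_iff.1 hb
          rw [← zpow_add, ← two_mul, zpow_mul, show y ^ (2 : ℤ) = 1 by rw [zpow_two, hy2], one_zpow]
        exact hp2 (hpp.eq_of_commute hp Nat.prime_two (hpA w hw.1 hw1) (by rw [hby])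
          (Subgroup.mem_centralizer_iff.1 hw.2 b rfl).symm)
      exact fun v hv => hfpf.conj_eq_inv (Subgroup.mem_zpowers y) hne.1 hy2 hv
    have hyt : (t * y) * x₀ = x₀ * (t * y) := by
      have hx₀A : x₀ ∈ A := Subgroup.mem_centralizer_singleton_iff.2 rfl
      have : t * y * x₀ * (t * y)⁻¹ = x₀ := by
        calc t * y * x₀ * (t * y)⁻¹ = t * (y * x₀ * y⁻¹) * t⁻¹ := by group
          _ = x₀ := by rw [hyi x₀ hx₀A, hAinv _ (inv_mem hx₀A), inv_inv]
      exact mul_inv_eq_iff_eq_mul.1 this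
    have htyne : t * y ≠ 1 := fun e => hne.2 (by rw [eq_inv_of_mul_eq_one_right e, hti])
    have htyo : orderOf (t * y) = 2 := by
      refine EPPOTwo.orderOf_eq_two ?_ htyne
      have hcy : y * t = t * y := Subgroup.mem_centralizer_singleton_iff.1 hy.2
      calc t * y * (t * y) = t * (y * t) * y := by group
        _ = t * (t * y) * y := by rw [hcy]
        _ = 1 := by rw [← mul_assoc, htt, one_mul, hy2]
    exact hp2 (hpp.eq_of_commute hp Nat.prime_two hpx₀ (by rw [htyo]) hyt.symm)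
  have hES : ∀ y ∈ E, g⁻¹ * y * g ∈ S := fun y hy => (hgC y).1 hy.2
  have hE4 : ∀ y ∈ E, y ≠ 1 → y ≠ t → y * y = t := by
    intro y hy hy1 hyt
    have h7 := hsq4 _ (hES y hy)
    have h8 : y * y * (y * y) = 1 := by
      calc y * y * (y * y) = g * ((g⁻¹ * y * g) * (g⁻¹ * y * g) * ((g⁻¹ * y * g) * (g⁻¹ * y * g))) * g⁻¹ := by
            group
        _ = 1 := by rw [h7]; group
    rcases hEt _ (mul_mem hy hy) h8 with e | e
    · rcases hEt y hy e with e' | e'
      · exact absurd e' hy1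
      · exact absurd e' hyt
    · exact e
  have htE : t ∈ E := ⟨htN, Subgroup.mem_centralizer_singleton_iff.2 rfl⟩
  have ht1 : t ≠ 1 := fun e => by rw [e, orderOf_one] at ht; omega
  have hEle : Nat.card E ≤ 4 := by
    by_cases hex : ∃ y ∈ E, y ≠ 1 ∧ y ≠ t
    · obtain ⟨y, hy, hy1, hyt⟩ := hex
      let F : Fin 4 → E := ![1, ⟨t, htE⟩, ⟨y, hy⟩, ⟨y * t, mul_mem hy htE⟩]
      calc Nat.card E ≤ Nat.card (Fin 4) := Nat.card_le_card_of_surjective F (fun z => ?_)
        _ = 4 := by simp
      obtain ⟨z, hz⟩ := z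
      by_cases hz1 : z = 1
      · exact ⟨0, Subtype.ext hz1.symm⟩
      by_cases hzt : z = t
      · exact ⟨1, Subtype.ext hzt.symm⟩
      have ey := hE4 y hy hy1 hyt
      have ez := hE4 z hz hz1 hzt
      have h9 := hsqi _ (hES y hy) _ (hES z hz) (fun e => ht1 (by
          rw [← ey]
          calc y * y = g * ((g⁻¹ * y * g) * (g⁻¹ * y * g)) * g⁻¹ := by group
            _ = 1 := by rw [e]; group))
        (by
          calc g⁻¹ * y * g * (g⁻¹ * y * g) = g⁻¹ * (y * y) * g := by group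
            _ = g⁻¹ * (z * z) * g := by rw [ey, ez]
            _ = _ := by group)
      have h10 : y⁻¹ * z * (y⁻¹ * z) = 1 := by
        calc y⁻¹ * z * (y⁻¹ * z) = g * ((g⁻¹ * y * g)⁻¹ * (g⁻¹ * z * g) *
              ((g⁻¹ * y * g)⁻¹ * (g⁻¹ * z * g))) * g⁻¹ := by group
          _ = 1 := by rw [h9]; group
      rcases hEt _ (mul_mem (inv_mem hy) hz) h10 with e | e
      · exact ⟨2, Subtype.ext (inv_mul_eq_one.1 e)⟩
      · exact ⟨3, Subtype.ext (by show y * t = z; rw [← e]; group)⟩
    · push Not at hex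
      let F : Fin 2 → E := ![1, ⟨t, htE⟩]
      calc Nat.card E ≤ Nat.card (Fin 2) := Nat.card_le_card_of_surjective F (fun z => ?_)
        _ ≤ 4 := by simp
      by_cases hz1 : (z : G) = 1
      · exact ⟨0, Subtype.ext hz1.symm⟩
      · exact ⟨1, Subtype.ext (hex z z.2 hz1).symm⟩
  obtain ⟨k, hk⟩ := hEp.exists_card_eq
  have hk12 : Nat.card E = 2 ∨ Nat.card E = 4 := by
    rcases k with _ | _ | _ | k
    · have : E = ⊥ := Subgroup.card_eq_one.1 (by rw [hk, pow_zero])
      rw [this, Subgroup.mem_bot] at htE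
      exact absurd htE ht1
    · exact Or.inl (by rw [hk]; norm_num)
    · exact Or.inr (by rw [hk]; norm_num)
    · rw [hk, pow_succ, pow_succ, pow_succ] at hEle
      have := Nat.two_pow_pos k
      omega
  obtain ⟨f, hf⟩ := hpp.card_dvd_el hp
  rw [← ha] at hf
  refine ⟨f, Nat.card E, hk12, ?_, by rw [hf, mul_comm], fun x hx => ?_⟩
  · have h11 := Subgroup.card_mul_index N
    rw [hel, ← h11, hNA] at hf
    have hapos : 1 ≤ a := Nat.one_le_pow _ _ hp.pos
    have h12 : N.index * a * (Nat.card E * f) = N.index * a * (a - 1) := by linear_combination -hf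
    have h13 := Nat.eq_of_mul_eq_mul_left (Nat.mul_pos (Nat.pos_of_ne_zero Subgroup.index_ne_zero_of_finite) hapos) h12
    omega
  · rw [mem_el] at hx
    obtain ⟨g', hg'⟩ := hconj x hx.1 hx.2
    set v := g'⁻¹ * x * g' with hv
    have hv1 : v ≠ 1 := fun e => hx.1 (by
      calc x = g' * v * g'⁻¹ := by rw [hv]; group
        _ = 1 := by rw [e]; group)
    have hCv := hCeq v hg' hv1
    rw [← hAcard, invCount]
    refine (Nat.card_eq_of_bijective (fun u : A =>
      (⟨g' * ((u : G) * t) * g'⁻¹, ?_, ?_⟩ : {s : G // orderOf s = 2 ∧ s * x * s⁻¹ = x⁻¹})) ⟨?_, ?_⟩).symm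
    · rw [show g' * ((u : G) * t) * g'⁻¹ = MulAut.conj g' ((u : G) * t) by simp, MulEquiv.orderOf_eq]
      refine EPPOTwo.orderOf_eq_two ?_ fun e => ?_
      · calc (u : G) * t * ((u : G) * t) = (u : G) * (t * u * t⁻¹) * (t * t) := by group
          _ = 1 := by rw [hAinv u u.2, htt, mul_one, mul_inv_cancel]
      · have hu : (u : G) = t := by rw [eq_inv_of_mul_eq_one_left e, hti]
        exact hp2 (hpp.eq_of_commute hp Nat.prime_two (hpA t (hu ▸ u.2) ht1) (by rw [ht]) (Commute.refl t))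
    · calc g' * ((u : G) * t) * g'⁻¹ * x * (g' * ((u : G) * t) * g'⁻¹)⁻¹
          = g' * ((u : G) * (t * v * t⁻¹) * (u : G)⁻¹) * g'⁻¹ := by rw [hv]; group
        _ = g' * v⁻¹ * g'⁻¹ := by
            rw [hAinv v hg', hAab u u.2 _ (inv_mem hg'), mul_inv_cancel_right]
        _ = x⁻¹ := by rw [hv]; group
    · intro u u' e
      have e' : g' * ((u : G) * t) * g'⁻¹ = g' * ((u' : G) * t) * g'⁻¹ := congrArg Subtype.val e
      exact Subtype.ext (mul_right_cancel (mul_left_cancel (mul_right_cancel e')))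
    · rintro ⟨s, hs, hsx⟩
      refine ⟨⟨g'⁻¹ * s * g' * t, ?_⟩, Subtype.ext ?_⟩
      · rw [← hCv, Subgroup.mem_centralizer_singleton_iff]
        have h14 : (g'⁻¹ * s * g' * t) * v * (g'⁻¹ * s * g' * t)⁻¹ = v := by
          calc (g'⁻¹ * s * g' * t) * v * (g'⁻¹ * s * g' * t)⁻¹
              = (g'⁻¹ * s * g') * (t * v * t⁻¹) * (g'⁻¹ * s * g')⁻¹ := by group
            _ = g'⁻¹ * (s * x * s⁻¹)⁻¹ * g' := by rw [hAinv v hg', hv]; group
            _ = v := by rw [hsx, inv_inv, hv]
        exact mul_inv_eq_iff_eq_mul.1 h14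
      · show g' * (g'⁻¹ * s * g' * t * t) * g'⁻¹ = s
        rw [mul_assoc (g'⁻¹ * s * g'), htt]; group

/-- For each involution, the elements it inverts correspond to the involutions not commuting with it. -/
theorem SEData.sum_invCount (h : SEData G S D q) (hpp : Pp G) :
    ∑ p ∈ (Nat.card G).primeFactors.erase 2, ∑ x ∈ el G p, invCount x =
      ((Nat.card S + 1) * (q - 1)) * ((Nat.card S + 1) * (q - 1) - (q - 1)) := by
  classical
  haveI := Fintype.ofFinite G
  set X := Finset.univ.filter fun x : G => x ≠ 1 ∧ Odd (orderOf x) with hX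
  set I := Finset.univ.filter fun t : G => orderOf t = 2 with hI
  have hIcard : I.card = (Nat.card S + 1) * (q - 1) := by
    rw [← SEData.card_involutions h, Nat.card_eq_fintype_card, Fintype.card_subtype]
  have hsplit : ∑ p ∈ (Nat.card G).primeFactors.erase 2, ∑ x ∈ el G p, invCount x =
      ∑ x ∈ X, invCount x := by
    have hmaps : Set.MapsTo (fun x : G => (orderOf x).minFac) (X : Set G)
        ((Nat.card G).primeFactors.erase 2 : Set ℕ) := by
      intro x hx
      obtain ⟨hx1, ho⟩ := (Finset.mem_filter.1 (Finset.mem_coe.1 hx)).2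
      have hne : orderOf x ≠ 1 := fun e => hx1 (orderOf_eq_one_iff.1 e)
      refine Finset.mem_coe.2 (Finset.mem_erase.2 ⟨fun e => ?_, Nat.mem_primeFactors.2
        ⟨Nat.minFac_prime hne, (Nat.minFac_dvd _).trans (orderOf_dvd_natCard x), Nat.card_pos.ne'⟩⟩)
      exact (Nat.not_even_iff_odd.2 ho) (even_iff_two_dvd.2 (by rw [← e]; exact Nat.minFac_dvd _))
    rw [← Finset.sum_fiberwise_of_maps_to hmaps]
    refine Finset.sum_congr rfl fun p hp => Finset.sum_congr ?_ fun _ _ => rfl
    obtain ⟨hp2, hpf⟩ := Finset.mem_erase.1 hp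
    ext x
    rw [hpp.mem_el_iff (Nat.prime_of_mem_primeFactors hpf), Finset.mem_filter, hX, Finset.mem_filter]
    refine ⟨fun hx => ⟨⟨Finset.mem_univ x, hx.1, ?_⟩, hx.2⟩, fun hx => ⟨hx.1.2.1, hx.2⟩⟩
    obtain ⟨k, hk⟩ := hpp.exists_pow (Nat.prime_of_mem_primeFactors hpf) (hx.2 ▸ Nat.minFac_dvd _)
    rw [hk]
    exact ((Nat.prime_of_mem_primeFactors hpf).odd_of_ne_two hp2).pow
  rw [hsplit]
  have hinv : ∀ x, invCount x = (I.filter fun t => t * x * t⁻¹ = x⁻¹).card := fun x => by
    rw [invCount, Nat.card_eq_fintype_card, Fintype.card_subtype, hI, Finset.filter_filter]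
  simp only [hinv]
  have hswap := Finset.sum_card_bipartiteAbove_eq_sum_card_bipartiteBelow (s := X) (t := I)
    (r := fun x t : G => t * x * t⁻¹ = x⁻¹)
  simp only [Finset.bipartiteAbove, Finset.bipartiteBelow] at hswap
  rw [hswap]
  have hper : ∀ t ∈ I, (X.filter fun x => t * x * t⁻¹ = x⁻¹).card = I.card - (q - 1) := by
    intro t htI
    have ht : orderOf t = 2 := (Finset.mem_filter.1 htI).2
    have htt := EPPOTwo.sq_eq_one_of_orderOf ht
    have hti : t⁻¹ = t := inv_eq_of_mul_eq_one_right htt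
    have ht1 : t ≠ 1 := fun e => by rw [e, orderOf_one] at ht; omega
    obtain ⟨g, hgt, hgC⟩ := SEData.centralizer_invol h ht
    have hcomm : (I.filter fun w => Commute w t).card = q - 1 := by
      rw [← h.card_invol, Nat.card_eq_fintype_card, Fintype.card_subtype]
      refine Finset.card_nbij' (fun w => g⁻¹ * w * g) (fun s => g * s * g⁻¹) ?_ ?_ ?_ ?_
      · intro w hw
        obtain ⟨hwI, hwt⟩ := Finset.mem_filter.1 (Finset.mem_coe.1 hw)
        refine Finset.mem_coe.2 (Finset.mem_filter.2 ⟨Finset.mem_univ _,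
          (hgC w).1 (Subgroup.mem_centralizer_singleton_iff.2 hwt.eq), ?_⟩)
        show orderOf (g⁻¹ * w * g) = 2
        rw [show g⁻¹ * w * g = MulAut.conj g⁻¹ w by simp, MulEquiv.orderOf_eq]
        exact (Finset.mem_filter.1 hwI).2
      · intro s hs
        obtain ⟨-, hsS, hso⟩ := Finset.mem_filter.1 (Finset.mem_coe.1 hs)
        refine Finset.mem_coe.2 (Finset.mem_filter.2 ⟨Finset.mem_filter.2 ⟨Finset.mem_univ _, ?_⟩, ?_⟩)
        · show orderOf (g * s * g⁻¹) = 2
          rw [← MulAut.conj_apply, MulEquiv.orderOf_eq, hso]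
        · refine Subgroup.mem_centralizer_singleton_iff.1 ((hgC _).2 ?_)
          rwa [show g⁻¹ * (g * s * g⁻¹) * g = s by group]
      · intro w _; group
      · intro s _; group
    have hnc : (I.filter fun w => ¬ Commute w t).card = I.card - (q - 1) := by
      have := Finset.card_filter_add_card_filter_not (s := I) (fun w => Commute w t)
      omega
    rw [← hnc]
    refine Finset.card_nbij' (fun x => t * x) (fun w => t * w) ?_ ?_ ?_ ?_
    · intro x hx
      obtain ⟨hxX, hix⟩ := Finset.mem_filter.1 (Finset.mem_coe.1 hx)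
      obtain ⟨-, hx1, hxo⟩ := Finset.mem_filter.1 hxX
      have hnc' : ¬ Commute (t * x) t := fun e => hx1 (eq_one_of_odd_isTwo hxo (EPPOTwo.isTwo_of_sq (by
        have h1 : t * x * t = x := by
          calc t * x * t = t * (t * x) := e.eq
            _ = x := by rw [← mul_assoc, htt, one_mul]
        rw [hti, h1] at hix
        exact eq_inv_iff_mul_eq_one.1 hix)))
      refine Finset.mem_coe.2 (Finset.mem_filter.2 ⟨Finset.mem_filter.2 ⟨Finset.mem_univ _,
        EPPOTwo.orderOf_eq_two ?_ fun e => hnc' ((show t * x = 1 from e) ▸ Commute.one_left t)⟩, hnc'⟩)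
      calc t * x * (t * x) = (t * x * t⁻¹) * (t * t) * x := by group
        _ = 1 := by rw [hix, htt, mul_one, inv_mul_cancel]
    · intro w hw
      obtain ⟨hwI, hwc⟩ := Finset.mem_filter.1 (Finset.mem_coe.1 hw)
      have hwo : orderOf w = 2 := (Finset.mem_filter.1 hwI).2
      have hww := EPPOTwo.sq_eq_one_of_orderOf hwo
      have hwi : w⁻¹ = w := inv_eq_of_mul_eq_one_right hww
      have hinvx : t * (t * w) * t⁻¹ = (t * w)⁻¹ := by
        rw [mul_inv_rev, hwi, hti, ← mul_assoc, htt, one_mul]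
      have hx1 : t * w ≠ 1 := fun e => hwc (by
        rw [show w = t by rw [← hti]; exact eq_inv_of_mul_eq_one_right e])
      refine Finset.mem_coe.2 (Finset.mem_filter.2 ⟨Finset.mem_filter.2 ⟨Finset.mem_univ _, hx1, ?_⟩, hinvx⟩)
      by_contra hev
      rw [Nat.not_odd_iff_even, even_iff_two_dvd] at hev
      obtain ⟨k, hk⟩ := hpp.exists_pow Nat.prime_two hev
      rcases k with _ | k
      · exact hx1 (orderOf_eq_one_iff.1 (hk.trans (pow_zero 2)))
      set i := (t * w) ^ 2 ^ k with hi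
      have hio : orderOf i = 2 := by
        rw [hi, orderOf_pow' _ (pow_ne_zero _ two_ne_zero), hk,
          Nat.gcd_eq_right (pow_dvd_pow 2 (Nat.le_succ k)), Nat.pow_div (Nat.le_succ k) two_pos,
          show k + 1 - k = 1 by omega, pow_one]
      have hii : i⁻¹ = i := inv_eq_of_mul_eq_one_right (EPPOTwo.sq_eq_one_of_orderOf hio)
      have htci : t * i = i * t := by
        refine mul_inv_eq_iff_eq_mul.1 ?_
        rw [hi, ← conj_pow, hinvx, inv_pow]
        exact hii
      have hxci : t * w * i = i * (t * w) := ((Commute.refl (t * w)).pow_right _).eq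
      obtain ⟨g', -, hg'⟩ := SEData.centralizer_invol h hio
      have m1 := (hg' t).1 (Subgroup.mem_centralizer_singleton_iff.2 htci)
      have m2 := (hg' w).1 (by
        have := mul_mem (inv_mem (Subgroup.mem_centralizer_singleton_iff.2 htci :
          t ∈ Subgroup.centralizer ({i} : Set G))) (Subgroup.mem_centralizer_singleton_iff.2 hxci :
          t * w ∈ Subgroup.centralizer ({i} : Set G))
        rwa [inv_mul_cancel_left] at this)
      refine hwc ?_
      have hcen := h.central _ m1 (by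
        calc g'⁻¹ * t * g' * (g'⁻¹ * t * g') = g'⁻¹ * (t * t) * g' := by group
          _ = 1 := by rw [htt]; group) _ m2
      show w * t = t * w
      calc w * t = g' * ((g'⁻¹ * w * g') * (g'⁻¹ * t * g')) * g'⁻¹ := by group
        _ = _ := by rw [hcen]; group
    · intro x _; simp [← mul_assoc, htt]
    · intro w _; simp [← mul_assoc, htt]
  rw [Finset.sum_congr rfl hper, Finset.sum_const, smul_eq_mul, hIcard]

theorem two_pow_mul_odd {a b u v : ℕ} (hu : Odd u) (hv : Odd v) (h : 2 ^ a * u = 2 ^ b * v) : a = b := by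
  have hu' := (Nat.coprime_two_left.2 hu).pow_left b
  have hv' := (Nat.coprime_two_left.2 hv).pow_left a
  refine le_antisymm (Nat.pow_dvd_pow_iff_le_right one_lt_two |>.1 (hv'.dvd_of_dvd_mul_right (h ▸ dvd_mul_right _ _)))
    (Nat.pow_dvd_pow_iff_le_right one_lt_two |>.1 (hu'.dvd_of_dvd_mul_right (h.symm ▸ dvd_mul_right _ _)))

theorem ordProj_mul_left {u v p : ℕ} (hu : u ≠ 0) (hv : v ≠ 0) (hpv : ¬ p ∣ v) :
    p ^ (u * v).factorization p = p ^ u.factorization p := by
  rw [Nat.factorization_mul hu hv, Finsupp.add_apply, Nat.factorization_eq_zero_of_not_dvd hpv, add_zero]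

/-- With prime-power element orders the field has order `8` or `32`. -/
theorem SEData.suzuki_cases (h : SEData G S D q) (hpp : Pp G) (hsz : Cfsg.IsSuzuki G) :
    (q = 8 ∨ q = 32) ∧ Nat.card G = (q ^ 2 + 1) * q ^ 2 * (q - 1) := by
  classical
  obtain ⟨-, m, hm, hcard⟩ := hsz
  set n := 2 * m + 1 with hn
  obtain ⟨n', hn'⟩ := h.isPow
  obtain ⟨s, hs⟩ := h.isP.exists_card_eq
  have hq4 := h.four_le
  -- identify the parameter
  have hqodd : ∀ k, 1 ≤ k → Odd (2 ^ k - 1) := fun k hk => by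
    obtain ⟨j, rfl⟩ : ∃ j, k = j + 1 := ⟨k - 1, by omega⟩
    rw [Nat.odd_iff, pow_succ]
    have := Nat.two_pow_pos j
    omega
  have hn'1 : 1 ≤ n' := by
    by_contra hlt
    rw [hn', show n' = 0 by omega, pow_zero] at hq4
    omega
  have hQodd : Odd (((2 : ℕ) ^ n) ^ 2 + 1) := (Nat.even_pow.2 ⟨Nat.even_pow.2 ⟨even_two, by omega⟩, by omega⟩).add_one
  have hs0 : 1 ≤ s := by
    by_contra hlt
    have := h.card_G
    rw [hs, show s = 0 by omega, pow_zero] at this
    have hI := h.card_invol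
    have : Nat.card {t : G // t ∈ S ∧ orderOf t = 2} = 0 := by
      have hbot : S = ⊥ := Subgroup.card_eq_one.1 (by rw [hs, show s = 0 by omega, pow_zero])
      rw [Nat.card_eq_zero]
      left
      exact ⟨fun t => by
        have ht := t.2
        have h1 := (Subgroup.eq_bot_iff_forall S).1 hbot _ ht.1
        have := ht.2
        rw [h1, orderOf_one] at this
        omega⟩
    omega
  have hs2 : s = n * 2 := by
    refine two_pow_mul_odd (u := (2 ^ s + 1) * (q - 1)) (v := ((2 ^ n) ^ 2 + 1) * (2 ^ n - 1))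
      ((Nat.even_pow.2 ⟨even_two, by omega⟩).add_one.mul (hn' ▸ hqodd n' hn'1))
      (hQodd.mul (hqodd n (by omega))) ?_
    have h1 := h.card_G
    rw [hs, hcard] at h1
    rw [pow_mul]
    linear_combination -h1
  have hqn : q = 2 ^ n := by
    have h1 := h.card_G
    rw [hs, hcard, hs2, pow_mul] at h1
    have h2 : q - 1 = 2 ^ n - 1 := by
      refine (Nat.eq_of_mul_eq_mul_left (Nat.mul_pos (show 0 < (2 ^ n) ^ 2 + 1 from Nat.succ_pos _) (pow_pos (Nat.two_pow_pos n) 2)) ?_).symm
      linear_combination h1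
    have := Nat.two_pow_pos n
    omega
  have hS : Nat.card S = q * q := by rw [hs, hs2, pow_mul, hqn, pow_two]
  have hq8 : 8 ≤ q := by
    rw [hqn]; exact (Nat.pow_le_pow_right two_pos (show 3 ≤ n by omega)).trans' (by norm_num)
  have hqe : Even q := by rw [hqn]; exact Nat.even_pow.2 ⟨even_two, by omega⟩
  set g := Nat.card G with hg
  set M := q ^ 2 + 1 with hM
  have hgM : g = M * q ^ 2 * (q - 1) := by rw [hg, h.card_G, hS, hM, pow_two]
  refine ⟨?_, hgM⟩
  have hMq : M = q * q + 1 := by rw [hM, pow_two]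
  have hMpos : M ≠ 0 := by omega
  -- the split torus
  obtain ⟨d₀, hd₀⟩ := h.cyclic_D.exists_ofOrder_eq_natCard
  rw [h.card_D] at hd₀
  have hd₀' : orderOf (d₀ : G) = q - 1 := by rw [Subgroup.orderOf_coe, hd₀]
  have hq1 : IsPrimePow (q - 1) := hpp.isPrimePow_of_dvd (by omega) hd₀'
  obtain ⟨p₀, i₀, hp₀, hi₀, hqp⟩ := (isPrimePow_nat_iff _).1 hq1
  have hp₀q : p₀ ∣ q - 1 := hqp ▸ dvd_pow_self p₀ (by omega)
  have hp₀2 : p₀ ≠ 2 := fun e => by
    obtain ⟨j, hj⟩ := hqe
    have := e ▸ hp₀q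
    omega
  have hcop : ∀ p, p.Prime → p ∣ M → ¬ p ∣ q ^ 2 * (q - 1) := by
    intro p hp hpM hd
    rcases hp.dvd_mul.1 hd with h1 | h1
    · have h3 := Nat.dvd_sub hpM h1
      rw [show M - q ^ 2 = 1 by omega] at h3
      exact hp.ne_one (Nat.dvd_one.1 h3)
    · have h2 : p ∣ q * q - 1 := by
        rw [show q * q - 1 = (q + 1) * (q - 1) by rw [← Nat.sq_sub_sq, one_pow, pow_two]]
        exact h1.mul_left _
      have h3 := Nat.dvd_sub hpM h2
      rw [show M - (q * q - 1) = 2 by
        have : 1 ≤ q * q := Nat.mul_pos (by omega) (by omega)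
        omega] at h3
      obtain rfl := (Nat.prime_dvd_prime_iff_eq hp Nat.prime_two).1 h3
      obtain ⟨j, hj⟩ := hqe
      omega
  have hp₀M : ¬ p₀ ∣ M := fun e => hcop p₀ hp₀ e (hp₀q.mul_left _)
  have hp₀q2 : ¬ p₀ ∣ q ^ 2 := fun e => hp₀2 (by
    have := hp₀.dvd_of_dvd_pow e
    rw [hqn] at this
    exact (Nat.prime_dvd_prime_iff_eq hp₀ Nat.prime_two).1 (hp₀.dvd_of_dvd_pow this))
  have hpf : g.primeFactors = insert 2 (insert p₀ M.primeFactors) := by
    rw [hgM, Nat.primeFactors_mul (by positivity) (by omega),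
      Nat.primeFactors_mul hMpos (by positivity), Nat.primeFactors_pow _ two_ne_zero, ← hqp,
      Nat.primeFactors_prime_pow (by omega) hp₀, hqn,
      Nat.primeFactors_prime_pow (by omega) Nat.prime_two]
    ext x
    simp only [Finset.mem_union, Finset.mem_insert, Finset.mem_singleton]
    tauto
  have h2M : 2 ∉ insert p₀ M.primeFactors := by
    rw [Finset.mem_insert]
    rintro (e | e)
    · exact hp₀2 e.symm
    · have := Nat.dvd_of_mem_primeFactors e
      obtain ⟨j, hj⟩ := hqe
      rw [hMq, hj, show (j + j) * (j + j) = 2 * (2 * (j * j)) by ring] at this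
      omega
  have hp₀F : p₀ ∉ M.primeFactors := fun e => hp₀M (Nat.dvd_of_mem_primeFactors e)
  have hprime : ∀ p ∈ M.primeFactors, p.Prime ∧ p ≠ 2 ∧ p ∣ M := fun p hp =>
    ⟨Nat.prime_of_mem_primeFactors hp, fun e => h2M (Finset.mem_insert_of_mem (e ▸ hp)),
      Nat.dvd_of_mem_primeFactors hp⟩
  have hap : ∀ p ∈ M.primeFactors, p ^ g.factorization p = p ^ M.factorization p := fun p hp => by
    rw [hgM, mul_assoc]
    exact ordProj_mul_left hMpos (Nat.mul_ne_zero (pow_ne_zero 2 (by omega)) (by omega))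
      (hcop p (hprime p hp).1 (hprime p hp).2.2)
  have hap₀ : p₀ ^ g.factorization p₀ = q - 1 := by
    rw [hgM, mul_comm, ordProj_mul_left (by omega) (by positivity)
      (fun e => (hp₀.dvd_mul.1 e).elim hp₀M hp₀q2), ← hqp, hp₀.factorization_pow, Finsupp.single_eq_same]
  -- the coefficients
  set f : ℕ → ℕ := fun p => (el G p).card * p ^ g.factorization p / g with hfdef
  have hf : ∀ p, p.Prime → (el G p).card * p ^ g.factorization p = f p * g := fun p hp =>
    (Nat.div_mul_cancel (hpp.card_dvd_el hp)).symm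
  have hreal : ∀ p, p.Prime → p ≠ 2 → RealPrime G p →
      (2 * f p + 1 = p ^ g.factorization p ∨ 4 * f p + 1 = p ^ g.factorization p) ∧
        ∑ x ∈ el G p, invCount x = f p * g := by
    intro p hp hp2 hr
    obtain ⟨f', e, he, hfe, hel, hinv⟩ := SEData.real_structure h hpp hS hp hp2 hr
    have : f p = f' := Nat.eq_of_mul_eq_mul_right Nat.card_pos ((hf p hp).symm.trans hel)
    refine ⟨by rcases he with rfl | rfl <;> [left; right] <;> rw [this] <;> exact hfe, ?_⟩
    rw [Finset.sum_congr rfl hinv, Finset.sum_const, smul_eq_mul]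
    exact hf p hp
  have hnreal : ∀ p, ¬ RealPrime G p → ∑ x ∈ el G p, invCount x = 0 := by
    intro p hr
    refine Finset.sum_eq_zero fun x hx => ?_
    rw [invCount, Nat.card_eq_zero]
    exact Or.inl ⟨fun t => hr ⟨x, (mem_el.1 hx).1, (mem_el.1 hx).2, t, t.2.1, t.2.2⟩⟩
  -- the split torus is real
  have hr₀ : RealPrime G p₀ := by
    obtain ⟨w, hw, -, hwi⟩ := h.inverter
    exact ⟨d₀, fun e => by rw [e, orderOf_one] at hd₀'; omega, hd₀' ▸ hp₀q, w, hw, hwi d₀ d₀.2⟩
  obtain ⟨hf₀, hsum₀⟩ := hreal p₀ hp₀ hp₀2 hr₀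
  rw [hap₀] at hf₀
  have hf₀' : 2 * f p₀ + 2 = q := by
    rcases hf₀ with e | e
    · omega
    · exfalso
      have h4 : 4 ∣ q := by
        rw [hqn, show (4 : ℕ) = 2 ^ 2 by norm_num]; exact pow_dvd_pow 2 (by omega)
      omega
  -- involutions count
  set R := M.primeFactors.filter (RealPrime G) with hR
  have hcount := SEData.sum_invCount h hpp
  rw [← hg, hpf, Finset.erase_insert h2M, Finset.sum_insert hp₀F, hsum₀] at hcount
  have hsumR : ∑ p ∈ M.primeFactors, ∑ x ∈ el G p, invCount x = (∑ p ∈ R, f p) * g := by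
    rw [← Finset.sum_filter_add_sum_filter_not M.primeFactors (RealPrime G), ← hR, Finset.sum_mul]
    have : ∑ p ∈ M.primeFactors.filter (fun p => ¬ RealPrime G p), ∑ x ∈ el G p, invCount x = 0 :=
      Finset.sum_eq_zero fun p hp => hnreal p (Finset.mem_filter.1 hp).2
    rw [this, add_zero]
    exact Finset.sum_congr rfl fun p hp => (hreal p (hprime p (Finset.mem_filter.1 hp).1).1
      (hprime p (Finset.mem_filter.1 hp).1).2.1 (Finset.mem_filter.1 hp).2).2
  rw [hsumR, hS, ← hMq] at hcount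
  have h1R : 2 * ∑ p ∈ R, f p = q := by
    have e1 : M * (q - 1) - (q - 1) = q * q * (q - 1) := by
      rw [hMq, add_mul, one_mul, Nat.add_sub_cancel]
    rw [e1] at hcount
    have e2 : M * (q - 1) * (q * q * (q - 1)) = (q - 1) * g := by rw [hgM, pow_two]; ring
    rw [e2, ← add_mul] at hcount
    have := Nat.eq_of_mul_eq_mul_right Nat.card_pos hcount
    omega
  -- class equation
  have hel2 : (el G 2).card = (q * q + 1) * (q * q - 1) := by
    rw [← hS, ← SEData.card_two_elements h, el, ← Nat.card_eq_card_finite_toFinset]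
    refine Nat.card_congr (Equiv.subtypeEquivRight fun x => and_congr_right fun hx => ?_)
    constructor
    · intro hd
      obtain ⟨k, hk⟩ := hpp.exists_pow Nat.prime_two hd
      exact ⟨k, by rw [← hk, pow_orderOf_eq_one]⟩
    · rintro ⟨k, hk⟩
      obtain ⟨j, -, hj⟩ := (Nat.dvd_prime_pow Nat.prime_two).1 (orderOf_dvd_of_pow_eq_one hk)
      rcases j with _ | j
      · exact absurd (orderOf_eq_one_iff.1 (hj.trans (pow_zero 2))) hx
      · exact hj ▸ dvd_pow_self 2 j.succ_ne_zero
  have hcls := hpp.card_eq_sum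
  rw [← hg, hpf, Finset.sum_insert h2M, Finset.sum_insert hp₀F, hel2] at hcls
  have helM : ∀ p ∈ M.primeFactors,
      (el G p).card = f p * (M / p ^ M.factorization p) * (q ^ 2 * (q - 1)) := by
    intro p hp
    have h1 := hf p (hprime p hp).1
    rw [hap p hp, hgM] at h1
    refine Nat.eq_of_mul_eq_mul_right (pow_pos (hprime p hp).1.pos (M.factorization p)) ?_
    rw [h1]
    have h2 := Nat.div_mul_cancel (Nat.ordProj_dvd M p)
    calc f p * (M * q ^ 2 * (q - 1))
        = f p * ((M / p ^ M.factorization p) * p ^ M.factorization p) * (q ^ 2 * (q - 1)) := by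
          rw [h2]; ring
      _ = _ := by ring
  have hel₀ : (el G p₀).card = f p₀ * (M * q ^ 2) := by
    have h1 := hf p₀ hp₀
    rw [hap₀, hgM] at h1
    refine Nat.eq_of_mul_eq_mul_right (show 0 < q - 1 by omega) ?_
    rw [h1]; ring
  rw [Finset.sum_congr rfl helM, ← Finset.sum_mul, hel₀] at hcls
  have h2s : 2 * ∑ p ∈ M.primeFactors, f p * (M / p ^ M.factorization p) + q = q * q := by
    generalize ∑ p ∈ M.primeFactors, f p * (M / p ^ M.factorization p) = T at hcls ⊢
    obtain ⟨r, hr⟩ : ∃ r, q = r + 1 := ⟨q - 1, by omega⟩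
    have e1 : (q * q - 1) = r * (r + 2) := by
      rw [hr]
      have : (r + 1) * (r + 1) = r * (r + 2) + 1 := by ring
      omega
    rw [hgM, e1, show q - 1 = r by omega] at hcls
    have e2 : ((f p₀ : ℤ)) * 2 + 2 = r + 1 := by
      have : f p₀ * 2 + 2 = r + 1 := by omega
      exact_mod_cast this
    have e3 : ((q : ℤ)) = r + 1 := by exact_mod_cast hr
    have e4 : (M : ℤ) = (q : ℤ) * q + 1 := by exact_mod_cast hMq
    have e5 : ((M : ℤ) * (q : ℤ) ^ 2 * r) = 1 + (((q : ℤ) * q + 1) * (r * (r + 2)) +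
        ((f p₀ : ℤ) * (M * (q : ℤ) ^ 2) + T * ((q : ℤ) ^ 2 * r))) := by exact_mod_cast hcls
    have e6 : ((2 : ℤ) * T + q) * ((q : ℤ) ^ 2 * r) = (q : ℤ) * q * ((q : ℤ) ^ 2 * r) := by
      rw [e4, e3] at e5
      rw [e3]
      linear_combination -2 * e5 - ((r : ℤ) + 1) ^ 2 * (((r : ℤ) + 1) * (r + 1) + 1) * e2
    have hne : ((q : ℤ) ^ 2 * r) ≠ 0 := by
      have : (r : ℤ) ≠ 0 := by omega
      positivity
    have e7 := mul_right_cancel₀ hne e6
    exact_mod_cast e7
  -- arithmetic
  have ha5 : ∀ p ∈ R, 5 ≤ p ^ M.factorization p := by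
    intro p hp
    obtain ⟨hpP, hp2, hpM⟩ := hprime p (Finset.mem_filter.1 hp).1
    have hp5 : 5 ≤ p := by
      have := hpP.two_le
      by_contra hlt
      interval_cases p
      · exact hp2 rfl
      · rw [hM, hqn, ← pow_mul, mul_comm, pow_mul, Nat.dvd_iff_mod_eq_zero, Nat.add_mod, Nat.pow_mod] at hpM
        norm_num at hpM
      · norm_num at hpP
    exact hp5.trans (Nat.le_self_pow (hpP.factorization_pos_of_dvd hMpos hpM).ne' p)
  obtain ⟨i, hi, j, hj, hadd, hmul⟩ := count_arith M.primeFactors R (Finset.filter_subset _ _)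
    (fun p => p ^ M.factorization p) f hM hq8 hqe (fun p _ => Nat.ordProj_dvd M p)
    (fun a ha b hb hab => Nat.coprime_pow_primes _ _ (hprime a ha).1 (hprime b hb).1 hab) ha5
    (fun p hp => by
      have hpF := (Finset.mem_filter.1 hp).1
      rw [← hap p hpF]
      exact (hreal p (hprime p hpF).1 (hprime p hpF).2.1 (Finset.mem_filter.1 hp).2).1)
    h1R h2s
  have hipp : ∀ k ∈ R, IsPrimePow (k ^ M.factorization k) := fun k hk => by
    obtain ⟨hkP, -, hkM⟩ := hprime k (Finset.mem_filter.1 hk).1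
    exact hkP.isPrimePow.pow (hkP.factorization_pos_of_dvd hMpos hkM).ne'
  rcases suzuki_arith (n := n) (by rw [hn]; exact odd_two_mul_add_one m) (by omega)
    (hqn ▸ hadd) (by rw [hmul, hM, hqn]) (hipp i hi) (hipp j hj) with e | e
  · left; rw [hqn, e]; norm_num
  · right; rw [hqn, e]; norm_num

end CfsgLib.Recog.CIT.Eppo
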