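import Cfsg.Agent.Lib.Recog.CIT.Eppo.Basic
import Cfsg.Agent.Lib.Involutions.StrongEmb

/-!
The Sylow 2-subgroup and the real Sylow subgroups of a group with strongly embedded data.
-/

set_option autoImplicit false
set_option linter.dupNamespace false
set_option linter.unusedSectionVars false

namespace CfsgLib.Recog.CIT.Eppo

open EPPOTwo (IsTwo isTwo_of_mem)

universe u

variable {G : Type u} [Group G] [Finite G]

/-- Elements conjugate into a trivial-intersection subgroup. -/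
theorem card_conj_TI (P : Subgroup G)
    (hti : ∀ g x : G, x ∈ P → g * x * g⁻¹ ∈ P → x ≠ 1 → g ∈ Subgroup.normalizer (P : Set G))
    (pr : G → Prop) (hpr : ∀ g x : G, pr x → pr (g * x * g⁻¹)) :
    Nat.card {y : G // y ≠ 1 ∧ pr y ∧ ∃ g : G, g⁻¹ * y * g ∈ P} =
      (Subgroup.normalizer (P : Set G)).index * Nat.card {x : G // x ∈ P ∧ x ≠ 1 ∧ pr x} := by
  classical
  set N := Subgroup.normalizer (P : Set G) with hN
  rw [Subgroup.index, ← Nat.card_prod]
  symm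
  refine Nat.card_eq_of_bijective (fun z : (G ⧸ N) × {x : G // x ∈ P ∧ x ≠ 1 ∧ pr x} =>
    (⟨z.1.out * (z.2 : G) * z.1.out⁻¹, fun e => z.2.2.2.1 (conj_eq_one_iff.1 e),
      hpr _ _ z.2.2.2.2, z.1.out, by group; exact z.2.2.1⟩ :
      {y : G // y ≠ 1 ∧ pr y ∧ ∃ g : G, g⁻¹ * y * g ∈ P})) ⟨?_, ?_⟩
  · rintro ⟨c, x, hx⟩ ⟨d, x', hx'⟩ e
    have e' : c.out * x * c.out⁻¹ = d.out * x' * d.out⁻¹ := congrArg Subtype.val e
    have h1 : (d.out⁻¹ * c.out) * x * (d.out⁻¹ * c.out)⁻¹ = x' := by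
      calc (d.out⁻¹ * c.out) * x * (d.out⁻¹ * c.out)⁻¹ = d.out⁻¹ * (c.out * x * c.out⁻¹) * d.out := by
            group
        _ = x' := by rw [e']; group
    have h2 := hti _ x hx.1 (h1 ▸ hx'.1) hx.2.1
    have hcd : d = c := by
      rw [← QuotientGroup.out_eq' c, ← QuotientGroup.out_eq' d]
      exact QuotientGroup.eq.2 h2
    subst hcd
    have : x = x' := by
      calc x = (d.out⁻¹ * d.out) * x * (d.out⁻¹ * d.out)⁻¹ := by group
        _ = x' := h1
    subst this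
    rfl
  · rintro ⟨y, hy1, hy, g, hg⟩
    set c : G ⧸ N := (g : G ⧸ N) with hc
    have hn : g⁻¹ * c.out ∈ N := QuotientGroup.eq.1 (QuotientGroup.out_eq' c).symm
    have hmem : c.out⁻¹ * y * c.out ∈ P := by
      have h1 : (g⁻¹ * c.out)⁻¹ * (g⁻¹ * y * g) * (g⁻¹ * c.out)⁻¹⁻¹ ∈ P :=
        (Subgroup.mem_normalizer_iff.1 (inv_mem hn) _).1 hg
      have h2 : (g⁻¹ * c.out)⁻¹ * (g⁻¹ * y * g) * (g⁻¹ * c.out)⁻¹⁻¹ = c.out⁻¹ * y * c.out := by group
      rwa [h2] at h1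
    refine ⟨(c, ⟨c.out⁻¹ * y * c.out, hmem, fun e => hy1 ?_, ?_⟩), Subtype.ext ?_⟩
    · calc y = c.out * (c.out⁻¹ * y * c.out) * c.out⁻¹ := by group
        _ = 1 := by rw [e]; group
    · have := hpr c.out⁻¹ y hy
      rwa [inv_inv] at this
    · show c.out * (c.out⁻¹ * y * c.out) * c.out⁻¹ = y
      group

variable {S D : Subgroup G} {q : ℕ}

theorem SEData.cit_odd_D (h : SEData G S D q) : Odd (Nat.card D) := by
  obtain ⟨n, hn⟩ := h.isPow
  have h4 := h.four_le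
  rw [h.card_D, Nat.odd_iff, hn]
  rcases n with _ | n
  · rw [hn, pow_zero] at h4; omega
  · rw [pow_succ]; have := Nat.two_pow_pos n; omega

/-- Elements of `D` fix no nontrivial element of `S`. -/
theorem SEData.eq_one_of_fixed (h : SEData G S D q) (hc : CIT G) {d s : G} (hd : d ∈ D) (hd1 : d ≠ 1)
    (hs : s ∈ S) (he : d * s * d⁻¹ = s) : s = 1 :=
  hc.eq_one_of_mem (odd_orderOf_of_mem (SEData.cit_odd_D h) hd) hd1 h.isP hs
    (mul_inv_eq_iff_eq_mul.1 he)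

theorem SEData.conj_mem (h : SEData G S D q) {d s : G} (hd : d ∈ D) (hs : s ∈ S) : d * s * d⁻¹ ∈ S :=
  (Subgroup.mem_normalizer_iff.1 (h.le_norm hd) s).1 hs

/-- In a kernel of order `q²` squaring separates the cosets of the involutions. -/
theorem SEData.squares (h : SEData G S D q) (hc : CIT G) (hS : Nat.card S = q * q) :
    (∀ y ∈ S, (y * y) * (y * y) = 1) ∧
      ∀ x ∈ S, ∀ y ∈ S, x * x ≠ 1 → x * x = y * y → (x⁻¹ * y) * (x⁻¹ * y) = 1 := by
  classical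
  have h4 := h.four_le
  let Z : Subgroup G :=
    { carrier := {t | t ∈ S ∧ t * t = 1}
      one_mem' := ⟨one_mem S, one_mul 1⟩
      mul_mem' := fun {a b} ha hb => ⟨mul_mem ha.1 hb.1, by
        calc a * b * (a * b) = a * (b * a) * b := by group
          _ = a * (a * b) * b := by rw [h.central a ha.1 ha.2 b hb.1]
          _ = 1 := by rw [← mul_assoc, ha.2, one_mul, hb.2]⟩
      inv_mem' := fun {a} ha => ⟨inv_mem ha.1, by rw [← mul_inv_rev, ha.2, inv_one]⟩ }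
  have hZcard : Nat.card Z = q := by
    have e : Nat.card Z = Nat.card {t : G // t ∈ S ∧ orderOf t = 2} + 1 := by
      rw [← Nat.card_congr (Equiv.optionSubtypeNe (1 : Z)), Finite.card_option]
      congr 1
      exact Nat.card_congr
        { toFun := fun z => ⟨((z : Z) : G), (z : Z).2.1,
            EPPOTwo.orderOf_eq_two (z : Z).2.2 fun e => z.2 (Subtype.ext e)⟩
          invFun := fun t => ⟨⟨t, t.2.1, EPPOTwo.sq_eq_one_of_orderOf t.2.2⟩, fun e => by
            have : (t : G) = 1 := congrArg Subtype.val e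
            have ht := t.2.2
            rw [this, orderOf_one] at ht; omega⟩
          left_inv := fun _ => rfl
          right_inv := fun _ => rfl }
    rw [e, h.card_invol]; omega
  -- an element of order four
  obtain ⟨x₀, hx₀S, hx₀, hx₀4⟩ : ∃ x ∈ S, x * x ≠ 1 ∧ (x * x) * (x * x) = 1 := by
    have hne : ¬ ∀ y ∈ S, y * y = 1 := fun hall => by
      have : Nat.card S ≤ Nat.card Z := Nat.card_le_card_of_injective
        (fun s : S => (⟨s, s.2, hall s s.2⟩ : Z)) fun a b e => Subtype.ext (congrArg Subtype.val e :)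
      rw [hS, hZcard] at this
      nlinarith
    push Not at hne
    obtain ⟨y, hy, hy2⟩ := hne
    obtain ⟨k, hk⟩ := IsPGroup.iff_orderOf.1 h.isP ⟨y, hy⟩
    rw [Subgroup.orderOf_mk] at hk
    obtain ⟨k, rfl⟩ : ∃ m, k = m + 2 := ⟨k - 2, by
      rcases k with _ | _ | k
      · exact absurd (by rw [orderOf_eq_one_iff.1 (hk.trans (pow_zero 2)), one_mul]) hy2
      · exact absurd (by rw [← pow_two, ← pow_one 2, ← hk, pow_orderOf_eq_one]) hy2
      · omega⟩
    refine ⟨y ^ 2 ^ k, pow_mem hy _, ?_, ?_⟩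
    · rw [← pow_add]
      exact pow_ne_one_of_lt_orderOf (by positivity)
        (by rw [hk, pow_add]; have := Nat.two_pow_pos k; omega)
    · rw [← pow_add, ← pow_add, show 2 ^ k + 2 ^ k + (2 ^ k + 2 ^ k) = orderOf y by rw [hk, pow_add]; ring]
      exact pow_orderOf_eq_one y
  have hconjZ : ∀ {d z : G}, d ∈ D → z ∈ Z → d * z * d⁻¹ ∈ Z := fun {d z} hd hz =>
    ⟨SEData.conj_mem h hd hz.1, by
      rw [show d * z * d⁻¹ * (d * z * d⁻¹) = d * (z * z) * d⁻¹ by group, hz.2, mul_one, mul_inv_cancel]⟩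
  let Φ : D × Z → {s : S // ¬ (s : G) * s = 1} := fun p =>
    ⟨⟨(p.1 : G) * x₀ * (p.1 : G)⁻¹ * p.2, mul_mem (SEData.conj_mem h p.1.2 hx₀S) p.2.2.1⟩, fun e => by
      apply hx₀
      have hz := p.2.2
      have hc' := h.central (p.2 : G) hz.1 hz.2 _ (SEData.conj_mem h p.1.2 hx₀S)
      have : ((p.1 : G) * x₀ * (p.1 : G)⁻¹) * ((p.1 : G) * x₀ * (p.1 : G)⁻¹) = 1 := by
        calc _ = ((p.1 : G) * x₀ * (p.1 : G)⁻¹) * ((p.1 : G) * x₀ * (p.1 : G)⁻¹) * ((p.2 : G) * p.2) := by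
              rw [hz.2, mul_one]
          _ = ((p.1 : G) * x₀ * (p.1 : G)⁻¹) * (((p.1 : G) * x₀ * (p.1 : G)⁻¹) * p.2) * p.2 := by group
          _ = ((p.1 : G) * x₀ * (p.1 : G)⁻¹) * ((p.2 : G) * ((p.1 : G) * x₀ * (p.1 : G)⁻¹)) * p.2 := by
              rw [hc']
          _ = _ := by simpa [mul_assoc] using e
      rw [show ((p.1 : G) * x₀ * (p.1 : G)⁻¹) * ((p.1 : G) * x₀ * (p.1 : G)⁻¹) =
        (p.1 : G) * (x₀ * x₀) * (p.1 : G)⁻¹ by group, conj_eq_one_iff] at this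
      exact this⟩
  have hΦi : Function.Injective Φ := by
    rintro ⟨d, z⟩ ⟨d', z'⟩ e
    have e' : (d : G) * x₀ * (d : G)⁻¹ * z = (d' : G) * x₀ * (d' : G)⁻¹ * z' :=
      congrArg (fun s => ((s : S) : G)) (congrArg Subtype.val e)
    by_contra hne
    set c : G := (d' : G)⁻¹ * d with hcdef
    have hcD : c ∈ D := mul_mem (inv_mem d'.2) d.2
    have hc1 : c ≠ 1 := fun e0 => hne (by
      have hdd : (d : G) = d' := (inv_mul_eq_one.1 e0).symm
      rw [hdd] at e'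
      exact Prod.ext (Subtype.ext hdd) (Subtype.ext (mul_left_cancel e')))
    -- `c` fixes the coset of `x₀`
    set w : G := x₀⁻¹ * (c * x₀ * c⁻¹) with hwdef
    have hw : w ∈ Z := by
      have h1 : w = (d' : G)⁻¹ * ((z' : G) * (z : G)⁻¹) * d' := by
        have h2 : (d : G) * x₀ * (d : G)⁻¹ = (d' : G) * x₀ * (d' : G)⁻¹ * ((z' : G) * (z : G)⁻¹) := by
          rw [← mul_assoc, ← e', mul_inv_cancel_right]
        calc w = x₀⁻¹ * (d' : G)⁻¹ * ((d : G) * x₀ * (d : G)⁻¹) * d' := by rw [hwdef, hcdef]; group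
          _ = _ := by rw [h2]; group
      rw [h1]
      have := hconjZ (inv_mem d'.2) (mul_mem z'.2 (inv_mem z.2))
      rwa [inv_inv] at this
    let f : Z → Z := fun v => ⟨c * v * c⁻¹ * (v : G)⁻¹, mul_mem (hconjZ hcD v.2) (inv_mem v.2)⟩
    have hf : Function.Injective f := fun a b eab => by
      have e1 : c * (a : G) * c⁻¹ * (a : G)⁻¹ = c * b * c⁻¹ * (b : G)⁻¹ := congrArg Subtype.val eab
      refine Subtype.ext (mul_inv_eq_one.1 (SEData.eq_one_of_fixed h hc hcD hc1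
        (mul_mem a.2.1 (inv_mem b.2.1)) ?_))
      have hcb := h.central (b : G)⁻¹ (inv_mem b.2.1) (inv_mem b.2).2
      calc c * ((a : G) * (b : G)⁻¹) * c⁻¹ = (c * a * c⁻¹) * (c * b * c⁻¹)⁻¹ := by group
        _ = (c * b * c⁻¹ * (b : G)⁻¹) * a * (c * b * c⁻¹)⁻¹ := by rw [← e1]; group
        _ = (c * b * c⁻¹) * ((b : G)⁻¹ * a) * (c * b * c⁻¹)⁻¹ := by group
        _ = (c * b * c⁻¹) * ((a : G) * (b : G)⁻¹) * (c * b * c⁻¹)⁻¹ := by rw [hcb _ a.2.1]
        _ = ((a : G) * (b : G)⁻¹) * (c * b * c⁻¹) * (c * b * c⁻¹)⁻¹ := by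
            rw [h.central _ (SEData.conj_mem h hcD b.2.1) (hconjZ hcD b.2).2 _ (mul_mem a.2.1 (inv_mem b.2.1))]
        _ = _ := by group
    obtain ⟨v, hv⟩ := Finite.injective_iff_surjective.1 hf ⟨w⁻¹, inv_mem hw⟩
    have hv' : c * (v : G) * c⁻¹ * (v : G)⁻¹ = w⁻¹ := congrArg Subtype.val hv
    have hfix : c * (x₀ * v) * c⁻¹ = x₀ * v := by
      calc c * (x₀ * v) * c⁻¹ = (c * x₀ * c⁻¹) * (c * v * c⁻¹ * (v : G)⁻¹) * v := by group
        _ = x₀ * v := by rw [hv', hwdef]; group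
    have h1 := SEData.eq_one_of_fixed h hc hcD hc1 (mul_mem hx₀S v.2.1) hfix
    apply hx₀
    rw [eq_inv_of_mul_eq_one_left h1, ← mul_inv_rev, v.2.2, inv_one]
  have hΦs : Function.Surjective Φ := by
    refine (Function.Injective.bijective_of_nat_card_le hΦi ?_).2
    have e1 : Nat.card {s : S // ¬ (s : G) * s = 1} + Nat.card Z = Nat.card S := by
      rw [← Nat.card_congr (Equiv.sumCompl fun s : S => (s : G) * s = 1), Nat.card_sum, add_comm]
      congr 1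
      exact Nat.card_congr
        ⟨fun z => ⟨⟨z, z.2.1⟩, z.2.2⟩, fun s => ⟨(s : S), (s : S).2, s.2⟩, fun _ => rfl, fun _ => rfl⟩
    rw [Nat.card_prod, h.card_D, hZcard, Nat.sub_mul, one_mul]
    omega
  have hrep : ∀ y ∈ S, y * y ≠ 1 → ∃ d ∈ D, ∃ z ∈ Z, y = d * x₀ * d⁻¹ * z ∧
      y * y = d * (x₀ * x₀) * d⁻¹ := by
    intro y hy hy1
    obtain ⟨⟨d, z⟩, e⟩ := hΦs ⟨⟨y, hy⟩, hy1⟩
    have e' : (d : G) * x₀ * (d : G)⁻¹ * z = y := congrArg (fun s => ((s : S) : G)) (congrArg Subtype.val e)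
    refine ⟨d, d.2, z, z.2, e'.symm, ?_⟩
    rw [← e']
    calc (d : G) * x₀ * (d : G)⁻¹ * z * ((d : G) * x₀ * (d : G)⁻¹ * z)
        = (d : G) * x₀ * (d : G)⁻¹ * ((z : G) * ((d : G) * x₀ * (d : G)⁻¹)) * z := by group
      _ = (d : G) * x₀ * (d : G)⁻¹ * (((d : G) * x₀ * (d : G)⁻¹) * z) * z := by
          rw [h.central z z.2.1 z.2.2 _ (SEData.conj_mem h d.2 hx₀S)]
      _ = (d : G) * (x₀ * x₀) * (d : G)⁻¹ * ((z : G) * z) := by group
      _ = _ := by rw [z.2.2, mul_one]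
  refine ⟨fun y hy => ?_, fun x hx y hy hx1 hxy => ?_⟩
  · by_cases hy1 : y * y = 1
    · rw [hy1, one_mul]
    · obtain ⟨d, hd, z, hz, -, e⟩ := hrep y hy hy1
      rw [e, show d * (x₀ * x₀) * d⁻¹ * (d * (x₀ * x₀) * d⁻¹) = d * ((x₀ * x₀) * (x₀ * x₀)) * d⁻¹ by group,
        hx₀4]
      group
  · obtain ⟨d, hd, z, hz, ex, ex2⟩ := hrep x hx hx1
    obtain ⟨d', hd', z', hz', ey, ey2⟩ := hrep y hy (hxy ▸ hx1)
    have hdd : d = d' := by
      by_contra hne
      refine hx₀ (SEData.eq_one_of_fixed h hc (d := d'⁻¹ * d) (mul_mem (inv_mem hd') hd)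
        (fun e => hne (inv_mul_eq_one.1 e).symm) (mul_mem hx₀S hx₀S) ?_)
      calc d'⁻¹ * d * (x₀ * x₀) * (d'⁻¹ * d)⁻¹ = d'⁻¹ * (d * (x₀ * x₀) * d⁻¹) * d' := by group
        _ = d'⁻¹ * (x * x) * d' := by rw [← ex2]
        _ = d'⁻¹ * (d' * (x₀ * x₀) * d'⁻¹) * d' := by rw [hxy, ey2]
        _ = _ := by group
    subst hdd
    have h3 : x⁻¹ * y = z⁻¹ * z' := by rw [ex, ey]; group
    rw [h3]
    exact (mul_mem (inv_mem hz) hz').2

theorem SEData.exists_conj_mem (h : SEData G S D q) {P : Subgroup G} (hP : IsPGroup 2 P) :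
    ∃ g : G, ∀ x ∈ P, g⁻¹ * x * g ∈ S := by
  obtain ⟨R, hR⟩ := hP.exists_le_sylow
  obtain ⟨T, hT⟩ := h.isP.exists_le_sylow
  have hTS : (T : Subgroup G) = S := h.maxP _ T.isPGroup' hT
  obtain ⟨g, hg⟩ := MulAction.exists_smul_eq G T R
  refine ⟨g, fun x hx => ?_⟩
  have hxR : x ∈ ((g • T : Sylow 2 G) : Subgroup G) := by rw [hg]; exact hR hx
  rw [Sylow.coe_subgroup_smul, Subgroup.mem_pointwise_smul_iff_inv_smul_mem, hTS] at hxR
  simpa [MulAut.smul_def, ← map_inv] using hxR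

/-- Every involution centraliser is conjugate to `S`. -/
theorem SEData.centralizer_invol (h : SEData G S D q) {t : G} (ht : orderOf t = 2) :
    ∃ g : G, g⁻¹ * t * g ∈ S ∧ ∀ x, x ∈ Subgroup.centralizer ({t} : Set G) ↔ g⁻¹ * x * g ∈ S := by
  obtain ⟨g, hg⟩ := SEData.exists_conj_mem h (P := Subgroup.zpowers t)
    (IsPGroup.of_card (n := 1) (by rw [Nat.card_zpowers, ht, pow_one]))
  have hgt := hg t (Subgroup.mem_zpowers t)
  have ho : orderOf (g⁻¹ * t * g) = 2 := by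
    rw [show g⁻¹ * t * g = MulAut.conj g⁻¹ t by simp, MulEquiv.orderOf_eq, ht]
  have hC := h.centralizer_eq _ hgt ho
  refine ⟨g, hgt, fun x => ?_⟩
  rw [← hC, Subgroup.mem_centralizer_singleton_iff, Subgroup.mem_centralizer_singleton_iff]
  constructor
  · intro hx
    calc g⁻¹ * x * g * (g⁻¹ * t * g) = g⁻¹ * (x * t) * g := by group
      _ = _ := by rw [hx]; group
  · intro hx
    calc x * t = g * ((g⁻¹ * x * g) * (g⁻¹ * t * g)) * g⁻¹ := by group
      _ = _ := by rw [hx]; group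

theorem SEData.ti (h : SEData G S D q) {g x : G} (hx : x ∈ S) (hgx : g * x * g⁻¹ ∈ S) (hx1 : x ≠ 1) :
    g ∈ Subgroup.normalizer (S : Set G) := by
  obtain ⟨k, hk⟩ := IsPGroup.iff_orderOf.1 h.isP ⟨x, hx⟩
  rw [Subgroup.orderOf_mk] at hk
  rcases k with _ | k
  · exact absurd (orderOf_eq_one_iff.1 (hk.trans (pow_zero 2))) hx1
  refine Involutions.SE.mem_of_conj h.se (t := x ^ 2 ^ k) ?_ (Subgroup.le_normalizer (pow_mem hx _))
    (by rw [← conj_pow]; exact Subgroup.le_normalizer (pow_mem hgx _))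
  rw [orderOf_pow' x (pow_ne_zero _ two_ne_zero), hk,
    Nat.gcd_eq_right (pow_dvd_pow 2 (Nat.le_succ k)), Nat.pow_div (Nat.le_succ k) two_pos,
    show k + 1 - k = 1 by omega, pow_one]

theorem SEData.index_norm (h : SEData G S D q) :
    (Subgroup.normalizer (S : Set G)).index = Nat.card S + 1 := by
  have h1 := Subgroup.card_mul_index (Subgroup.normalizer (S : Set G))
  rw [h.card_norm, h.card_G] at h1
  have h4 := h.four_le
  have : 0 < Nat.card S * (q - 1) := Nat.mul_pos Nat.card_pos (by omega)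
  nlinarith

theorem SEData.card_two_elements (h : SEData G S D q) :
    Nat.card {y : G // y ≠ 1 ∧ IsTwo y} = (Nat.card S + 1) * (Nat.card S - 1) := by
  classical
  have hti := fun g x hx hgx hx1 => SEData.ti h (g := g) (x := x) hx hgx hx1
  have h2 := card_conj_TI S hti (fun _ => True) (fun _ _ _ => trivial)
  rw [SEData.index_norm h] at h2
  have e1 : Nat.card {x : G // x ∈ S ∧ x ≠ 1 ∧ True} = Nat.card S - 1 := by
    have := Nat.card_congr (Equiv.optionSubtypeNe (1 : S))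
    rw [Finite.card_option] at this
    rw [← this, Nat.add_sub_cancel]
    exact Nat.card_congr
      { toFun := fun x => ⟨⟨x, x.2.1⟩, fun e => x.2.2.1 (congrArg Subtype.val e)⟩
        invFun := fun s => ⟨((s : S) : G), (s : S).2, fun e => s.2 (Subtype.ext e), trivial⟩
        left_inv := fun _ => rfl
        right_inv := fun _ => rfl }
  rw [← e1, ← h2]
  refine Nat.card_congr (Equiv.subtypeEquivRight fun y => ⟨fun hy => ⟨hy.1, trivial, ?_⟩, fun hy => ⟨hy.1, ?_⟩⟩)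
  · obtain ⟨k, hk⟩ := hy.2
    obtain ⟨j, -, hj⟩ := (Nat.dvd_prime_pow Nat.prime_two).1 (orderOf_dvd_of_pow_eq_one hk)
    obtain ⟨g, hg⟩ := SEData.exists_conj_mem h (P := Subgroup.zpowers y)
      (IsPGroup.of_card (n := j) (by rw [Nat.card_zpowers, hj]))
    exact ⟨g, hg y (Subgroup.mem_zpowers y)⟩
  · obtain ⟨g, hg⟩ := hy.2.2
    obtain ⟨k, hk⟩ := isTwo_of_mem h.isP hg
    have h5 : g⁻¹ * y ^ 2 ^ k * g = 1 := by
      rw [← hk]
      simpa [MulAut.conj_apply] using map_pow (MulAut.conj g⁻¹).toMonoidHom y (2 ^ k)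
    exact ⟨k, by
      calc y ^ 2 ^ k = g * (g⁻¹ * y ^ 2 ^ k * g) * g⁻¹ := by group
        _ = 1 := by rw [h5]; group⟩

theorem SEData.card_involutions (h : SEData G S D q) :
    Nat.card {t : G // orderOf t = 2} = (Nat.card S + 1) * (q - 1) := by
  have hti := fun g x hx hgx hx1 => SEData.ti h (g := g) (x := x) hx hgx hx1
  have h2 := card_conj_TI S hti (fun x => orderOf x = 2)
    (fun g x hx => by rw [← MulAut.conj_apply, MulEquiv.orderOf_eq, hx])
  rw [SEData.index_norm h] at h2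
  have e1 : Nat.card {x : G // x ∈ S ∧ x ≠ 1 ∧ orderOf x = 2} = q - 1 := by
    rw [← h.card_invol]
    exact Nat.card_congr (Equiv.subtypeEquivRight fun x =>
      ⟨fun hx => ⟨hx.1, hx.2.2⟩, fun hx => ⟨hx.1, fun e => by rw [e, orderOf_one] at hx; omega, hx.2⟩⟩)
  rw [← e1, ← h2]
  refine Nat.card_congr (Equiv.subtypeEquivRight fun t => ⟨fun ht => ⟨fun e => ?_, ht, ?_⟩, fun ht => ht.2.1⟩)
  · rw [e, orderOf_one] at ht; omega
  · obtain ⟨g, hg, -⟩ := SEData.centralizer_invol h ht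
    exact ⟨g, hg⟩

end CfsgLib.Recog.CIT.Eppo
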